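import Groth.Agent.Lib.UVan10.Main
import Groth.Agent.Lib.RelAmple18.Generation
import Groth.Agent.Lib.ModM1.Stalk
import Groth.Agent.Lib.CohFound.ProjQuot
import Groth.Agent.Lib.CurveCoh17.Degree

/-!
# Uniform global generation on a system of thickenings
-/

set_option autoImplicit false
set_option linter.style.haveILetI false
set_option linter.unusedSectionVars false
set_option maxHeartbeats 1000000

universe u

open CategoryTheory CategoryTheory.Limits AlgebraicGeometry TopologicalSpace Opposite Groth.Agent.CohFound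
open Groth.Agent.Amp (gm)

noncomputable section

namespace Groth.Agent.UVan10

/-- The germs of the global sections generate every stalk. -/
def SpanTop {X : Scheme.{u}} (M : X.Modules) : Prop :=
  ∀ x : X, Submodule.span (X.presheaf.stalk x) (Set.range fun t : Γ(M, ⊤) => gm M x (U := ⊤) trivial t) = ⊤

/-- An epimorphic endomorphism of a coherent module is an isomorphism. -/
theorem isIso_of_epi_endo {X : Scheme.{u}} {M : X.Modules} (hM : Coh.IsCoh M) (f : M ⟶ M) [Epi f] : IsIso f := by
  rw [M1.isIso_iff_stalk]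
  intro x
  haveI : Module.Finite (X.presheaf.stalk x) (M2.st ((M2.pmF X).obj M) x) := M1.finite_stalk hM.1 hM.2 x
  let φ := M2.stMap ((M2.pmF X).map f) x
  have hs : Function.Surjective φ := (M1.epi_iff_stalk f).1 inferInstance x
  exact ⟨OrzechProperty.injective_of_surjective_endomorphism φ hs, hs⟩

/-- An epimorphism between isomorphic coherent modules is an isomorphism. -/
theorem isIso_of_epi_of_iso {X : Scheme.{u}} {M N : X.Modules} (hM : Coh.IsCoh M) (f : M ⟶ N) [Epi f] (e : N ≅ M) :
    IsIso f := by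
  haveI := isIso_of_epi_endo hM (f ≫ e.hom)
  exact IsIso.of_isIso_comp_right f e.hom

/-- Generation by global sections lifts along a bijective closed immersion. -/
theorem spanTop_of_pullback {X Z : Scheme.{u}} (i : Z ⟶ X) [IsClosedImmersion i] [Surjective i] {M : X.Modules}
    (hM : Coh.IsCoh M)
    (hs : Function.Surjective (((Scheme.Modules.pullbackPushforwardAdjunction i).unit.app M).app ⊤))
    (h : SpanTop ((Scheme.Modules.pullback i).obj M)) : SpanTop M := by
  intro x
  obtain ⟨z, rfl⟩ := i.surjective x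
  haveI := M1.finite_stalk hM.1 hM.2 (i z)
  let f := M2.stalkUnit i z M
  let N : Submodule (X.presheaf.stalk (i z)) (M.presheaf.stalk (i z) : Type u) :=
    Submodule.span (X.presheaf.stalk (i z)) (Set.range fun t : Γ(M, ⊤) => gm M (i z) (U := ⊤) trivial t)
  have hf : IsBaseChange (Z.presheaf.stalk z) f := M2.isBaseChange_stalkUnit i z M
  have hsurj : Function.Surjective (algebraMap (X.presheaf.stalk (i z)) (Z.presheaf.stalk z)) :=
    i.stalkMap_surjective z
  have himg : ∀ b ∈ (⊤ : Submodule (Z.presheaf.stalk z) (((Scheme.Modules.pullback i).obj M).presheaf.stalk z : Type u)),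
      ∃ a ∈ N, f a = b := by
    intro b hb
    rw [← h z] at hb
    induction hb using Submodule.span_induction with
    | mem w hw =>
      obtain ⟨t, rfl⟩ := hw
      obtain ⟨t', rfl⟩ := hs t
      exact ⟨_, Submodule.subset_span ⟨t', rfl⟩, M2.stalkUnitHom_germ i z M (U := ⊤) trivial t'⟩
    | zero => exact ⟨0, zero_mem _, map_zero _⟩
    | add u v _ _ hu hv =>
      obtain ⟨a, ha, rfl⟩ := hu
      obtain ⟨c, hc, rfl⟩ := hv
      exact ⟨a + c, add_mem ha hc, map_add _ _ _⟩
    | smul s u _ hu =>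
      obtain ⟨r, rfl⟩ := hsurj s
      obtain ⟨a, ha, rfl⟩ := hu
      exact ⟨r • a, N.smul_mem r ha, by rw [map_smul, algebraMap_smul]⟩
  refine Submodule.eq_top_iff'.2 fun m => ?_
  have hle : (⊤ : Submodule (X.presheaf.stalk (i z)) (M.presheaf.stalk (i z) : Type u)) ≤
      N ⊔ IsLocalRing.maximalIdeal (X.presheaf.stalk (i z)) • ⊤ := by
    intro m _
    obtain ⟨a, ha, hfa⟩ := himg (f m) trivial
    have hk := mem_smul_of_isBaseChange hf hsurj (show f (m - a) = 0 by rw [map_sub, hfa, sub_self])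
    rw [show m = a + (m - a) by abel]
    exact Submodule.add_mem_sup ha
      (Submodule.smul_mono_left (IsLocalRing.le_maximalIdeal (RingHom.ker_ne_top _)) hk)
  exact Submodule.le_of_le_smul_of_le_jacobson_bot Module.Finite.fg_top
    (IsLocalRing.maximalIdeal_le_jacobson _) hle (Submodule.mem_top (x := m))

variable {A : Type u} [CommRing A] [IsNoetherianRing A] {J : Ideal A} (S : TSys J)
variable (L : (k : ℕ) → (S.X k).Modules)

/-- Global sections lift from one level to the next. -/
theorem surjective_unit_top (hp : IsProper (S.p 0)) (hL : ∀ k, PicF.IsInvertible (L k))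
    (φ : ∀ k, (Scheme.Modules.pullback (S.i k)).obj (L (k + 1)) ≅ L k) {n : ℕ} (k : ℕ)
    (h₁ : Subsingleton (Hc ((abF (S.X (k + 1))).obj
      (CohB1.tensorMod (S.K (k + 1)) (CohB1.tensorPow (L (k + 1)) n))) 1 ⊤)) :
    Function.Surjective (((Scheme.Modules.pullbackPushforwardAdjunction (S.i k)).unit.app
      (CohB1.tensorMod (S.F (k + 1)) (CohB1.tensorPow (L (k + 1)) n))).app ⊤) := by
  haveI := fun k => S.isLocallyNoetherian_X hp k
  let i := S.i k
  let adj := Scheme.Modules.pullbackPushforwardAdjunction i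
  let E := CohB1.tensorPow (L (k + 1)) n
  have hE : PicF.IsInvertible E := Amp.isInvertible_tensorPow (hL (k + 1)) n
  let M := CohB1.tensorMod (S.F (k + 1)) E
  let C := (ShortComplex.mk (kernel.ι (S.π k)) (S.π k) (kernel.condition _)).map (M2.tensorR E)
  have hC : C.ShortExact := shortExact_tensor_invertible (S.shortExact k) hE
  obtain ⟨ψ⟩ := nonempty_push_tensor_iso i (S.F k) (S.hF k).1 E (Twist.isQCoh_of_isInvertible hE)
  let N := CohB1.tensorMod (S.F k) ((Scheme.Modules.pullback i).obj E)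
  let q : M ⟶ (Scheme.Modules.pushforward i).obj N := C.g ≫ ψ.inv
  haveI hg : Epi C.g := hC.epi_g
  haveI : Epi q := @epi_comp _ _ _ _ _ C.g hg ψ.inv _
  have hN : Coh.IsQCoh N := M2.isQCoh_tensor (S.hF k).1 (M1.isQCoh_pullback i (Twist.isQCoh_of_isInvertible hE))
  haveI := isIso_counit_closedImm i N hN
  let q' : (Scheme.Modules.pullback i).obj M ⟶ N := (Scheme.Modules.pullback i).map q ≫ adj.counit.app N
  haveI : Epi q' := epi_comp _ _
  let eN : N ≅ (Scheme.Modules.pullback i).obj M :=
    M2.tensorIso (S.ψ k).symm (Iso.refl _) ≪≫ (M2.pullTensorIso i (S.F (k + 1)) E).symm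
  haveI : IsIso q' := isIso_of_epi_of_iso (M1.isCoh_pullback i
    (CohFound.isCoh_tensor (S.hF (k + 1)) (CurveCoh17.isCoh_of_ofRank ((M2.isInvertible_iff_isFinLocFreeOfRank_one _).1 hE)))) q' eN
  have hq : adj.unit.app M ≫ (Scheme.Modules.pushforward i).map q' = q := by
    show adj.unit.app M ≫ (Scheme.Modules.pushforward i).map ((Scheme.Modules.pullback i).map q ≫ adj.counit.app N) = q
    rw [Functor.map_comp, ← Category.assoc]
    have hn : adj.unit.app M ≫ (Scheme.Modules.pushforward i).map ((Scheme.Modules.pullback i).map q) =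
        q ≫ adj.unit.app ((Scheme.Modules.pushforward i).obj N) := (adj.unit.naturality q).symm
    rw [hn, Category.assoc, adj.right_triangle_components N, Category.comp_id]
  intro t
  have hT := shortExact_abF hC
  let σ : Γ(C.X₃, ⊤) := (ψ.hom).app ⊤ (((Scheme.Modules.pushforward i).map q').app ⊤ t)
  obtain ⟨w, hw⟩ := exact₃ hT 0 ⊤ ((hc0 ((abF _).obj C.X₃) ⊤).symm σ) (@Subsingleton.elim _ h₁ _ _)
  let s : Γ(M, ⊤) := hc0 _ ⊤ w
  have hs : C.g.app ⊤ s = σ := by
    refine (hc0_mp ((abF _).map C.g) ⊤ w).symm.trans ?_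
    exact (congrArg (hc0 ((abF _).obj C.X₃) ⊤) hw).trans ((hc0 ((abF _).obj C.X₃) ⊤).apply_symm_apply σ)
  refine ⟨s, M1.app_injective ((Scheme.Modules.pushforward i).map q') ⊤ ?_⟩
  refine (congrArg (fun φ => φ.app ⊤ s) hq).trans ?_
  show ψ.inv.app ⊤ (C.g.app ⊤ s) = _
  rw [hs]
  exact congrArg (fun φ => φ.app ⊤ (((Scheme.Modules.pushforward i).map q').app ⊤ t)) ψ.hom_inv_id

/-- Generation transports along isomorphisms. -/
theorem SpanTop.of_iso {X : Scheme.{u}} {M N : X.Modules} (h : SpanTop M) (e : M ≅ N) : SpanTop N := fun x =>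
  RA.span_stalk_map_iso e x (S := Set.univ) (by rw [Set.image_univ]; exact h x)

theorem spanTop_of_isGloballyGenerated {X : Scheme.{u}} {M : X.Modules} (h : Curv2.IsGloballyGenerated M) :
    SpanTop M := by
  obtain ⟨ι, p, hp⟩ := h
  intro x
  let N : Submodule (X.presheaf.stalk x) (M.presheaf.stalk x : Type u) :=
    Submodule.span (X.presheaf.stalk x) (Set.range fun t : Γ(M, ⊤) => gm M x (U := ⊤) trivial t)
  let q := M2.toSky x M ≫ M2.skyMap N.mkQ
  have hev : ∀ {U : X.Opens} (hx : x ∈ U) (t : Γ(M, U)),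
      M2.skyEvalAt x _ hx (q.app U t) = N.mkQ (M.presheaf.germ U x hx t) := fun hx t => rfl
  have h0 : q = 0 := by
    refine (cancel_epi p).1 ?_
    refine M1.free_hom_ext (f := p ≫ q) (g := p ≫ 0) fun i => ?_
    refine M2.sky_ext x _ _ _ fun hx => ?_
    refine (hev hx ((M1.ιF i ≫ p).app ⊤ (M1.one ⊤))).trans ?_
    exact (Submodule.Quotient.mk_eq_zero N).2 (Submodule.subset_span ⟨_, rfl⟩)
  refine Submodule.eq_top_iff'.2 fun a => ?_
  obtain ⟨U, hU, t, rfl⟩ := M.presheaf.germ_exist a
  refine (Submodule.Quotient.mk_eq_zero N).1 ?_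
  exact (hev hU t).symm.trans (congrArg (fun φ => M2.skyEvalAt x _ hU (φ.app U t)) h0)

theorem TSys.exists_globallyGenerated (hp : IsProper (S.p 0)) (hL : ∀ k, PicF.IsInvertible (L k))
    (φ : ∀ k, (Scheme.Modules.pullback (S.i k)).obj (L (k + 1)) ≅ L k) (ha : CohB1.IsAmple (L 0)) :
    ∃ n₀ : ℕ, ∀ n, n₀ ≤ n → ∀ k,
      Curv2.IsGloballyGenerated (CohB1.tensorMod (S.F k) (CohB1.tensorPow (L k) n)) := by
  haveI := fun k => S.isLocallyNoetherian_X hp k
  obtain ⟨n₁, hn₁⟩ := S.exists_vanishing_K L hp hL φ ha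
  obtain ⟨n₂, hn₂⟩ := RA.exists_globallyGenerated ha (S.F 0) (S.hF 0).1 (S.hF 0).2
  refine ⟨max n₁ n₂, fun n hn k => RA.isGloballyGenerated_of_span _ ?_⟩
  change SpanTop _
  induction k with
  | zero => exact spanTop_of_isGloballyGenerated (hn₂ n ((le_max_right _ _).trans hn))
  | succ k ih =>
    haveI : Surjective (S.i k) := MorphismProperty.of_isPullback (S.hcart k).flip inferInstance
    refine spanTop_of_pullback (S.i k) (CohFound.isCoh_tensor (S.hF (k + 1)) (CurveCoh17.isCoh_of_ofRank ((M2.isInvertible_iff_isFinLocFreeOfRank_one _).1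
      (Amp.isInvertible_tensorPow (hL (k + 1)) n))))
      (surjective_unit_top S L hp hL φ k (hn₁ n ((le_max_left _ _).trans hn) (k + 1) 1 one_pos)) ?_
    exact ih.of_iso ((M2.tensorIso (S.ψ k) (M2.pullTensorPowIso (S.i k) (L (k + 1)) n ≪≫
      M2.tensorPowIso (φ k) n)).symm ≪≫ (M2.pullTensorIso (S.i k) (S.F (k + 1)) _).symm)

end Groth.Agent.UVan10
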