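import Groth.Agent.Lib.UVan10.Graded
import Groth.Agent.Lib.CohFound.RelVan
import Groth.Agent.Lib.CohGab13.Basic

/-!
# Uniform vanishing for graded systems of coherent modules
-/

set_option autoImplicit false
set_option linter.style.haveILetI false
set_option linter.unusedSectionVars false
set_option maxHeartbeats 1000000

universe u

open CategoryTheory CategoryTheory.Limits AlgebraicGeometry TopologicalSpace Groth.Agent.CohFound

noncomputable section

namespace Groth.Agent.UVan10

variable (X : Scheme.{u})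

/-- A graded system of coherent modules with commuting operators of degree one. -/
structure Sys (r : ℕ) where
  G : ℕ → X.Modules
  coh : ∀ k, Coh.IsCoh (G k)
  T : Fin r → ∀ k, G k ⟶ G (k + 1)
  comm : ∀ i j k, T j k ≫ T i (k + 1) = T i k ≫ T j (k + 1)

variable {X} {r : ℕ}

/-- The operators, combined. -/
def Sys.op (S : Sys X r) (k : ℕ) : (∐ fun _ : Fin r => S.G k) ⟶ S.G (k + 1) := Sigma.desc fun i => S.T i k

/-- Generation from degree `d` on. -/
def Sys.GenFrom (S : Sys X r) (d : ℕ) : Prop := ∀ k, d ≤ k → Epi (S.op k)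

/-- The projection of a finite coproduct. -/
def sigmaπ (M : X.Modules) (i : Fin r) : (∐ fun _ : Fin r => M) ⟶ M :=
  Sigma.desc fun j => if j = i then 𝟙 M else 0

lemma sigmaι_π (M : X.Modules) (i j : Fin r) :
    Sigma.ι (fun _ : Fin r => M) j ≫ sigmaπ M i = if j = i then 𝟙 M else 0 := Sigma.ι_desc _ _

lemma sigma_total (M : X.Modules) : ∑ i, sigmaπ M i ≫ Sigma.ι (fun _ : Fin r => M) i = 𝟙 _ := by
  refine Sigma.hom_ext _ _ fun j => ?_
  rw [Preadditive.comp_sum, Category.comp_id, Finset.sum_eq_single j]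
  · rw [← Category.assoc, sigmaι_π, if_pos rfl, Category.id_comp]
  · intro i _ hi
    rw [← Category.assoc, sigmaι_π, if_neg (Ne.symm hi), zero_comp]
  · exact fun h => absurd (Finset.mem_univ j) h

/-- Sections of a morphism, linearly. -/
def secL {M N : X.Modules} (φ : M ⟶ N) (U : X.Opens) : Γ(M, U) →ₗ[Γ(X, U)] Γ(N, U) :=
  { toFun := φ.app U, map_add' := map_add (φ.app U).hom, map_smul' := φ.app_smul }

lemma secL_sum {ι : Type*} (s : Finset ι) {M N : X.Modules} (f : ι → (M ⟶ N)) (U : X.Opens) :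
    secL (∑ i ∈ s, f i) U = ∑ i ∈ s, secL (f i) U := by
  classical
  induction s using Finset.induction_on with
  | empty => rfl
  | insert a s ha ih => rw [Finset.sum_insert ha, Finset.sum_insert ha, ← ih]; rfl

lemma sigma_decomp (M : X.Modules) {U : X.Opens} (x : Γ(∐ fun _ : Fin r => M, U)) :
    ∑ i, (Sigma.ι (fun _ : Fin r => M) i).app U ((sigmaπ M i).app U x) = x := by
  have h := congrArg (fun φ => φ x) (congrArg (fun f => secL f U) (sigma_total (r := r) M))
  rw [secL_sum, LinearMap.sum_apply] at h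
  exact h

/-- Surjectivity of the sections over an affine cover detects epimorphisms. -/
theorem epi_of_surjective_affines {M N : X.Modules} (hN : Coh.IsQCoh N) (φ : M ⟶ N)
    (h : ∀ x : X, ∃ U : X.Opens, IsAffineOpen U ∧ x ∈ U ∧ Function.Surjective (φ.app U)) : Epi φ := by
  haveI := hN
  rw [M1.epi_iff_stalk]
  intro x a
  obtain ⟨U, hU, hxU, hs⟩ := h x
  obtain ⟨c, n, hc, hn⟩ := M1.exists_germ_smul_eq N hU hxU a
  obtain ⟨m, rfl⟩ := hs n
  obtain ⟨v, hv⟩ := hc
  obtain ⟨W, hxW, b, hb⟩ := X.presheaf.exists_germ_eq (↑v⁻¹ : X.presheaf.stalk x)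
  refine ⟨M.presheaf.germ (W ⊓ U) x ⟨hxW, hxU⟩ (M1.ores (inf_le_left : W ⊓ U ≤ W) b • M1.mres M (inf_le_right : W ⊓ U ≤ U) m), ?_⟩
  rw [M1.germ_naturality, φ.app_smul, M1.app_mres, M1.germ_smul, M1.germ_mres]
  rw [show X.presheaf.germ (W ⊓ U) x ⟨hxW, hxU⟩ (M1.ores (inf_le_left : W ⊓ U ≤ W) b) = (↑v⁻¹ : X.presheaf.stalk x) from
    (TopCat.Presheaf.germ_res_apply X.presheaf (homOfLE inf_le_left) x ⟨hxW, hxU⟩ b).trans hb]
  rw [← hn, ← hv, ← mul_smul, Units.inv_mul, one_smul]

variable [AlgebraicGeometry.IsNoetherian X]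

/-- The kernel system. -/
def Sys.ker (S : Sys X r) : Sys X r where
  G k := kernel (S.op k)
  coh k := M1.isCoh_kernel (CohGab13.isCoh_sigma (S.coh k) r) (S.coh (k + 1)).1 _
  T j k := kernel.map (S.op k) (S.op (k + 1)) (Sigma.desc fun i => S.T j k ≫ Sigma.ι (fun _ : Fin r => S.G (k + 1)) i)
    (S.T j (k + 1)) (by
      refine Sigma.hom_ext _ _ fun i => ?_
      simp only [Sys.op, Sigma.ι_desc_assoc, Sigma.ι_desc, Category.assoc]
      exact S.comm j i k)
  comm i j k := by
    refine (cancel_mono (kernel.ι (S.op (k + 1 + 1)))).1 ?_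
    simp only [Category.assoc, kernel.lift_ι, kernel.lift_ι_assoc]
    congr 1
    refine Sigma.hom_ext _ _ fun l => ?_
    simp only [Sigma.ι_desc_assoc, Sigma.ι_desc, Category.assoc]
    rw [← Category.assoc, ← Category.assoc, S.comm]

theorem Sys.exists_genFrom_ker (S : Sys X r) {d : ℕ} (hd : S.GenFrom d) : ∃ d', S.ker.GenFrom d' := by
  classical
  let 𝒰 := X.affineCover.finiteSubcover
  let U : 𝒰.I₀ → X.Opens := fun i => (𝒰.f i).opensRange
  have hU : ∀ i, IsAffineOpen (U i) := fun i => isAffineOpen_opensRange _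
  have key : ∀ i, ∃ d', ∀ k, d' ≤ k → Function.Surjective ((S.ker.op k).app (U i)) := by
    intro a
    let V := U a
    haveI : IsNoetherianRing Γ(X, V) := IsLocallyNoetherian.component_noetherian ⟨V, hU a⟩
    let Mk : ℕ → Type u := fun k => Γ(∐ fun _ : Fin r => S.G k, V)
    haveI : ∀ k, Module.Finite Γ(X, V) (Mk k) := fun k =>
      M1.finite_sections (CohGab13.isCoh_sigma (S.coh k) r).1 (CohGab13.isCoh_sigma (S.coh k) r).2 (hU a)
    let tt : Fin r → ∀ k, (∐ fun _ : Fin r => S.G k) ⟶ (∐ fun _ : Fin r => S.G (k + 1)) := fun j k =>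
      Sigma.desc fun i => S.T j k ≫ Sigma.ι (fun _ : Fin r => S.G (k + 1)) i
    let T : Fin r → ∀ k, Mk k →ₗ[Γ(X, V)] Mk (k + 1) := fun j k => secL (tt j k) V
    have hcomm : ∀ i j k (x : Mk k), T i (k + 1) (T j k x) = T j (k + 1) (T i k x) := by
      intro i j k x
      have h : tt j k ≫ tt i (k + 1) = tt i k ≫ tt j (k + 1) := by
        refine Sigma.hom_ext _ _ fun l => ?_
        simp only [tt, Sigma.ι_desc_assoc, Sigma.ι_desc, Category.assoc]
        rw [← Category.assoc, ← Category.assoc, S.comm]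
      exact congrArg (fun f => secL f V x) h
    have hgen : ∀ k, d ≤ k → ∀ y : Mk (k + 1), ∃ x : Fin r → Mk k, ∑ j, T j k (x j) = y := by
      intro k hk y
      haveI := hd k hk
      have hs := M1.app_surjective_affine_of_isQCoh (CohGab13.isCoh_sigma (S.coh k) r).1 (S.coh (k + 1)).1
        (S.op k) (hU a)
      choose z hz using fun i => hs ((sigmaπ (S.G (k + 1)) i).app V y)
      -- the `i`-th component of `y` is `∑ j T_j (z i)_j`
      refine ⟨fun j => ∑ i, (Sigma.ι (fun _ : Fin r => S.G k) i).app V ((sigmaπ (S.G k) j).app V (z i)), ?_⟩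
      have hj : ∀ (i j : Fin r) (w : Γ(S.G k, V)), T j k ((Sigma.ι (fun _ : Fin r => S.G k) i).app V w) =
          (Sigma.ι (fun _ : Fin r => S.G (k + 1)) i).app V ((S.T j k).app V w) := fun i j w =>
        congrArg (fun f => secL f V w) (show Sigma.ι (fun _ : Fin r => S.G k) i ≫ tt j k =
          S.T j k ≫ Sigma.ι (fun _ : Fin r => S.G (k + 1)) i from Sigma.ι_desc _ _)
      simp only [map_sum, hj]
      rw [Finset.sum_comm]
      conv_rhs => rw [← sigma_decomp (S.G (k + 1)) y]
      refine Finset.sum_congr rfl fun i _ => ?_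
      rw [← map_sum]
      refine congrArg ((Sigma.ι (fun _ : Fin r => S.G (k + 1)) i).app V) ?_
      rw [← hz i]
      conv_rhs => rw [← sigma_decomp (S.G k) (z i), map_sum]
      refine Finset.sum_congr rfl fun j _ => ?_
      exact congrArg (fun f => secL f V ((sigmaπ (S.G k) j).app V (z i)))
        (Sigma.ι_desc (fun i => S.T i k) j).symm
    obtain ⟨d', hd'⟩ := exists_gen_sub Mk T hcomm d hgen (fun k => LinearMap.ker (secL (S.op k) V))
      fun j k x hx => by
        have h : tt j k ≫ S.op (k + 1) = S.op k ≫ S.T j (k + 1) := by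
          refine Sigma.hom_ext _ _ fun i => ?_
          simp only [tt, Sys.op, Sigma.ι_desc_assoc, Sigma.ι_desc, Category.assoc]
          exact S.comm i j k
        refine (congrArg (fun f => secL f V x) h).trans ?_
        show (S.T j (k + 1)).app V ((S.op k).app V x) = 0
        rw [show (S.op k).app V x = 0 from hx, map_zero]
    refine ⟨d', fun k hk s => ?_⟩
    have hs0 : secL (S.op (k + 1)) V ((kernel.ι (S.op (k + 1))).app V s) = 0 :=
      congrArg (fun f => secL f V s) (kernel.condition (S.op (k + 1)))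
    obtain ⟨x, hx, hsum⟩ := hd' k hk _ hs0
    choose w hw using fun j => (show ∃ w : Γ(S.ker.G k, V), (kernel.ι (S.op k)).app V w = x j from
      (M1.Sub.mem_ker (S.op k) V (x j)).2 (hx j))
    refine ⟨∑ j, (Sigma.ι (fun _ : Fin r => S.ker.G k) j).app V (w j), ?_⟩
    rw [map_sum]
    refine M1.app_injective (kernel.ι (S.op (k + 1))) V ?_
    refine Eq.trans (map_sum ((kernel.ι (S.op (k + 1))).app V).hom _ _) (Eq.trans ?_ hsum)
    refine Finset.sum_congr rfl fun j _ => ?_
    rw [← hw j]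
    exact congrArg (fun f => secL f V (w j)) (show (Sigma.ι (fun _ : Fin r => S.ker.G k) j ≫ S.ker.op k) ≫
      kernel.ι (S.op (k + 1)) = kernel.ι (S.op k) ≫ tt j k by
        rw [Sys.op, Sigma.ι_desc]
        exact kernel.lift_ι _ _ _)
  choose d' hd' using key
  refine ⟨Finset.univ.sup d', fun k hk => ?_⟩
  refine epi_of_surjective_affines ((S.ker.coh (k + 1)).1) _ fun x => ?_
  obtain ⟨z, hz⟩ := 𝒰.covers x
  exact ⟨U _, hU _, ⟨z, hz⟩, hd' _ k ((Finset.le_sup (Finset.mem_univ _)).trans hk)⟩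

/-- Uniform Serre vanishing for a finitely generated system. -/
theorem Sys.exists_uniform_vanishing {R : Type u} [CommRing R] [IsNoetherianRing R]
    (q : X ⟶ Spec (CommRingCat.of R)) [IsProper q] {L : X.Modules} (hL : CohB1.IsAmple L)
    (S : Sys X r) {d : ℕ} (hd : S.GenFrom d) :
    ∃ n₀ : ℕ, ∀ n, n₀ ≤ n → ∀ k p : ℕ, 0 < p →
      Subsingleton (Hc ((abF X).obj (CohB1.tensorMod (S.G k) (CohB1.tensorPow L n))) p ⊤) := by
  classical
  haveI : QuasiSeparatedSpace X := quasiSeparatedSpace_of_quasiSeparated q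
  obtain ⟨N, hN⟩ := exists_vanishing_bound_compact (X := X) (U := ⊤) isCompact_univ
  have hLn : ∀ n, PicF.IsInvertible (CohB1.tensorPow L n) := fun n => Amp.isInvertible_tensorPow hL.1 n
  suffices h : ∀ m (S : Sys X r) (d : ℕ), S.GenFrom d → ∃ n₀ : ℕ, ∀ n, n₀ ≤ n → ∀ k p : ℕ, 0 < p → N ≤ p + m →
      Subsingleton (Hc ((abF X).obj (CohB1.tensorMod (S.G k) (CohB1.tensorPow L n))) p ⊤) by
    obtain ⟨n₀, h₀⟩ := h N S d hd
    exact ⟨n₀, fun n hn k p hp => h₀ n hn k p hp (Nat.le_add_left _ _)⟩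
  intro m
  induction m with
  | zero =>
    exact fun S d _ => ⟨0, fun n _ k p _ hp => hN _
      (M2.isQCoh_tensor (S.coh k).1 (Twist.isQCoh_of_isInvertible (hLn n))) p hp⟩
  | succ m ih =>
    intro S d hd
    obtain ⟨d', hd'⟩ := S.exists_genFrom_ker hd
    obtain ⟨n₁, hn₁⟩ := ih S.ker d' hd'
    choose n₂ hn₂ using fun k : Fin (d + 1) => exists_vanishing_all q hL (S.coh k)
    refine ⟨max n₁ (Finset.univ.sup n₂), fun n hn k p hp hle => ?_⟩
    have hlow : ∀ k ≤ d, Subsingleton (Hc ((abF X).obj (CohB1.tensorMod (S.G k) (CohB1.tensorPow L n))) p ⊤) :=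
      fun k hk => hn₂ ⟨k, Nat.lt_succ_of_le hk⟩ n
        (((Finset.le_sup (f := n₂) (Finset.mem_univ _))).trans ((le_max_right _ _).trans hn)) p hp
    induction k with
    | zero => exact hlow 0 (Nat.zero_le d)
    | succ k ihk =>
      rcases Nat.lt_or_ge k d with hk | hk
      · exact hlow (k + 1) hk
      · haveI : Epi (S.op k) := hd k hk
        let C : ShortComplex X.Modules := ShortComplex.mk (kernel.ι (S.op k)) (S.op k) (kernel.condition _)
        have hC : C.ShortExact := { exact := ShortComplex.exact_kernel (S.op k) }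
        have hT := shortExact_abF (shortExact_tensor_invertible hC (hLn n))
        have h₃ : Subsingleton (Hc ((abF X).obj (CohB1.tensorMod (S.ker.G k) (CohB1.tensorPow L n))) (p + 1) ⊤) :=
          hn₁ n ((le_max_left _ _).trans hn) k (p + 1) (Nat.succ_pos p) (by omega)
        have h₂ : Subsingleton (Hc ((abF X).obj (CohB1.tensorMod (∐ fun _ : Fin r => S.G k)
            (CohB1.tensorPow L n))) p ⊤) :=
          subsingleton_hc_of_iso (PreservesCoproduct.iso (M2.tensorR (CohB1.tensorPow L n)) _).symm p ⊤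
            (subsingleton_hc_sigma p ⊤ ihk)
        refine subsingleton_of_forall_eq 0 fun x => ?_
        obtain ⟨y, hy⟩ := exact₃ hT p ⊤ x (@Subsingleton.elim _ h₃ _ _)
        rw [← hy]
        exact (congrArg _ (@Subsingleton.elim _ h₂ y 0)).trans (map_zero _)

end Groth.Agent.UVan10
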