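import Groth.Agent.Lib.UVan10.Systems
import Groth.Agent.Lib.CohFound.ReesMaps
import Groth.Agent.Lib.FormalH7.ModPow
import Groth.Prelude.Def_Formal

/-!
# The kernels of a coherent formal module as a graded system
-/

set_option autoImplicit false
set_option linter.style.haveILetI false
set_option linter.unusedSectionVars false
set_option maxHeartbeats 100000
set_option synthInstance.maxHeartbeats 20000

universe u

open CategoryTheory CategoryTheory.Limits AlgebraicGeometry TopologicalSpace Opposite Groth.Agent.CohFound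

noncomputable section

namespace Groth.Agent.UVan10.FKer

variable {A : Type u} [CommRing A] {I : Ideal A} {X : Scheme.{u}} [X.Over (Spec (CommRingCat.of A))]
  {G : ℕᵒᵖ ⥤ X.Modules} (hG : Formal.IsCohFormal I G)

/-- The transition map. -/
abbrev g (G : ℕᵒᵖ ⥤ X.Modules) (n : ℕ) : G.obj (op (n + 1)) ⟶ G.obj (op n) := G.map (homOfLE (Nat.le_succ n)).op

/-- Its kernel. -/
abbrev K (G : ℕᵒᵖ ⥤ X.Modules) (n : ℕ) : X.Modules := kernel (g G n)

include hG in
theorem exact (n : ℕ) : ∃ h : Formal.smulFamily (I ^ (n + 1)) (G.obj (op (n + 1))) ≫ g G n = 0,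
    (ShortComplex.mk _ _ h).Exact ∧ Epi (g G n) := by
  obtain ⟨h, hiso⟩ := hG.2.2 n
  refine ⟨h, ShortComplex.exact_of_g_is_cokernel _ (IsColimit.ofIsoColimit (cokernelIsCokernel _)
    (Cofork.ext (@asIso _ _ _ _ _ hiso) ?_)), ?_⟩
  · exact cokernel.π_desc _ _ _
  · have e : cokernel.π _ ≫ cokernel.desc _ _ h = g G n := cokernel.π_desc _ _ _
    rw [← e]
    exact @epi_comp _ _ _ _ _ _ _ _ (@IsIso.epi_of_iso _ _ _ _ _ hiso)

include hG in
theorem smul_g (n : ℕ) {b : A} (hb : b ∈ I ^ (n + 1)) : Formal.smulMod A (G.obj (op (n + 1))) b ≫ g G n = 0 := by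
  obtain ⟨h, -, -⟩ := exact hG n
  have h' := congrArg (fun φ => Sigma.ι (fun _ : ↥(I ^ (n + 1)) => G.obj (op (n + 1))) ⟨b, hb⟩ ≫ φ) h
  simp only [comp_zero] at h'
  rwa [Formal.smulFamily, Sigma.ι_desc_assoc] at h'

/-- Multiplication by `b ∈ I ^ (n + 1)` into the kernel. -/
def sl (n : ℕ) {b : A} (hb : b ∈ I ^ (n + 1)) : G.obj (op (n + 1)) ⟶ K G n :=
  kernel.lift (g G n) (Formal.smulMod A _ b) (smul_g hG n hb)

@[reassoc (attr := simp)]
lemma sl_ι (n : ℕ) {b : A} (hb : b ∈ I ^ (n + 1)) :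
    sl hG n hb ≫ kernel.ι (g G n) = Formal.smulMod A _ b := kernel.lift_ι _ _ _

theorem sl_joint (n : ℕ) {Z : X.Modules} (f f' : K G n ⟶ Z)
    (h : ∀ (b : A) (hb : b ∈ I ^ (n + 1)), sl hG n hb ≫ f = sl hG n hb ≫ f') : f = f' := by
  obtain ⟨h0, he, -⟩ := exact hG n
  haveI : Epi (kernel.lift (g G n) _ h0) := he.epi_kernelLift
  refine (cancel_epi (kernel.lift (g G n) _ h0)).1 (Sigma.hom_ext _ _ fun b => ?_)
  have e : Sigma.ι (fun _ : ↥(I ^ (n + 1)) => G.obj (op (n + 1))) b ≫ kernel.lift (g G n) _ h0 = sl hG n b.2 := by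
    refine (cancel_mono (kernel.ι (g G n))).1 ?_
    rw [Category.assoc, kernel.lift_ι, sl_ι, Formal.smulFamily, Sigma.ι_desc]
  rw [← Category.assoc, ← Category.assoc, e]
  exact h b b.2

include hG in
theorem killed (n : ℕ) {a : A} (ha : a ∈ I) : kernel.ι (g G n) ≫ Formal.smulMod A _ a = 0 := by
  refine sl_joint hG n _ _ fun b hb => ?_
  rw [comp_zero, sl_ι_assoc, ← Rees.smulMod_mul']
  exact hG.2.1 (n + 1) _ (by rw [pow_succ' I (n + 1)]; exact Ideal.mul_mem_mul ha hb)

/-- Multiplication by `a ∈ I`, raised by one level. -/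
def β (n : ℕ) {a : A} (ha : a ∈ I) : G.obj (op n) ⟶ G.obj (op (n + 1)) :=
  haveI : Epi (g G n) := (exact hG n).choose_spec.2
  Abelian.epiDesc (g G n) (Formal.smulMod A _ a) (killed hG n ha)

lemma g_β (n : ℕ) {a : A} (ha : a ∈ I) : g G n ≫ β hG n ha = Formal.smulMod A _ a :=
  haveI : Epi (g G n) := (exact hG n).choose_spec.2
  Abelian.comp_epiDesc _ _ _

lemma β_g (n : ℕ) {a : A} (ha : a ∈ I) : β hG n ha ≫ g G n = Formal.smulMod A _ a := by
  haveI : Epi (g G n) := (exact hG n).choose_spec.2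
  rw [← cancel_epi (g G n), ← Category.assoc, g_β, FormalH7.smulMod_naturality]

/-- The operators of degree one on the kernels. -/
def μ (n : ℕ) {a : A} (ha : a ∈ I) : K G n ⟶ K G (n + 1) :=
  kernel.lift (g G (n + 1)) (kernel.ι (g G n) ≫ β hG (n + 1) ha) (by
    rw [Category.assoc, β_g, killed hG n ha])

@[reassoc (attr := simp)]
lemma μ_ι (n : ℕ) {a : A} (ha : a ∈ I) :
    μ hG n ha ≫ kernel.ι (g G (n + 1)) = kernel.ι (g G n) ≫ β hG (n + 1) ha := kernel.lift_ι _ _ _

theorem μ_comm (n : ℕ) {a b : A} (ha : a ∈ I) (hb : b ∈ I) :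
    μ hG n hb ≫ μ hG (n + 1) ha = μ hG n ha ≫ μ hG (n + 1) hb := by
  refine (cancel_mono (kernel.ι (g G (n + 1 + 1)))).1 ?_
  simp only [Category.assoc, μ_ι, μ_ι_assoc]
  congr 1
  haveI : Epi (g G (n + 1)) := (exact hG (n + 1)).choose_spec.2
  haveI : Epi (g G (n + 1 + 1)) := (exact hG (n + 1 + 1)).choose_spec.2
  rw [← cancel_epi (g G (n + 1)), ← cancel_epi (g G (n + 1 + 1))]
  have key : ∀ {a b : A} (ha : a ∈ I) (hb : b ∈ I),
      g G (n + 1 + 1) ≫ g G (n + 1) ≫ β hG (n + 1) hb ≫ β hG (n + 1 + 1) ha =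
        Formal.smulMod A _ (a * b) := fun {a b} ha hb => by
    rw [← Category.assoc (g G (n + 1)), g_β, ← Category.assoc, ← FormalH7.smulMod_naturality, Category.assoc,
      g_β, ← Rees.smulMod_mul']
  rw [key ha hb, key hb ha, mul_comm]

theorem joint_μ {r : ℕ} (a : Fin r → A) (ha : ∀ l, a l ∈ I) (hspan : Ideal.span (Set.range a) = I) (n : ℕ)
    {Z : X.Modules} (f f' : K G (n + 1) ⟶ Z) (h : ∀ l, μ hG n (ha l) ≫ f = μ hG n (ha l) ≫ f') : f = f' := by
  suffices H : ∀ b, b ∈ I * I ^ (n + 1) → ∀ hb : b ∈ I ^ (n + 1 + 1),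
      sl hG (n + 1) hb ≫ f = sl hG (n + 1) hb ≫ f' from
    sl_joint hG (n + 1) _ _ fun b hb => H b (by rwa [← pow_succ']) hb
  intro b hb
  induction hb using Submodule.mul_induction_on' with
  | mem_mul_mem x hx y hy =>
    rw [← hspan] at hx
    suffices ∀ y, y ∈ I ^ (n + 1) → ∀ hxy : x * y ∈ I ^ (n + 1 + 1),
        sl hG (n + 1) hxy ≫ f = sl hG (n + 1) hxy ≫ f' from this y hy
    clear hy y
    induction hx using Submodule.span_induction with
    | mem z hz =>
      obtain ⟨l, rfl⟩ := hz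
      intro y hy hxy
      have e : sl hG (n + 1) hxy = g G (n + 1) ≫ sl hG n hy ≫ μ hG n (ha l) := by
        refine (cancel_mono (kernel.ι (g G (n + 1)))).1 ?_
        rw [sl_ι, Category.assoc, Category.assoc, μ_ι, sl_ι_assoc, ← FormalH7.smulMod_naturality_assoc, g_β,
          ← Rees.smulMod_mul']
      rw [e, Category.assoc, Category.assoc, Category.assoc, Category.assoc, h l]
    | zero =>
      intro y _ hxy
      have e : sl hG (n + 1) hxy = 0 := by
        refine (cancel_mono (kernel.ι (g G (n + 1)))).1 ?_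
        rw [sl_ι, zero_comp, zero_mul, Formal.smulMod, map_zero, Rees.smulModΓ_zero]
      rw [e, zero_comp, zero_comp]
    | add z z' hz hz' hz1 hz2 =>
      intro y hy hxy
      have m1 : z * y ∈ I ^ (n + 1 + 1) := by rw [pow_succ' I (n + 1)]; exact Ideal.mul_mem_mul (hspan ▸ hz) hy
      have m2 : z' * y ∈ I ^ (n + 1 + 1) := by rw [pow_succ' I (n + 1)]; exact Ideal.mul_mem_mul (hspan ▸ hz') hy
      have e : sl hG (n + 1) hxy = sl hG (n + 1) m1 + sl hG (n + 1) m2 := by
        refine (cancel_mono (kernel.ι (g G (n + 1)))).1 ?_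
        rw [Preadditive.add_comp, sl_ι, sl_ι, sl_ι, add_mul, Formal.smulMod, Formal.smulMod, Formal.smulMod,
          map_add, Rees.smulModΓ_add]
      rw [e, Preadditive.add_comp, Preadditive.add_comp, hz1 y hy m1, hz2 y hy m2]
    | smul c z _ hz =>
      intro y hy hxy
      have m1 : z * (c * y) ∈ I ^ (n + 1 + 1) := by rwa [← mul_assoc, mul_comm z c]
      have e : sl hG (n + 1) hxy = sl hG (n + 1) m1 := by
        refine (cancel_mono (kernel.ι (g G (n + 1)))).1 ?_
        rw [sl_ι, sl_ι]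
        exact congrArg _ (by rw [smul_eq_mul]; ring)
      rw [e]
      exact hz (c * y) (Ideal.mul_mem_left _ c hy) m1
  | add x hx y hy hx1 hy1 =>
    have m1 : x ∈ I ^ (n + 1 + 1) := by rw [pow_succ' I (n + 1)]; exact hx
    have m2 : y ∈ I ^ (n + 1 + 1) := by rw [pow_succ' I (n + 1)]; exact hy
    intro hxy
    have e : sl hG (n + 1) hxy = sl hG (n + 1) m1 + sl hG (n + 1) m2 := by
      refine (cancel_mono (kernel.ι (g G (n + 1)))).1 ?_
      rw [Preadditive.add_comp, sl_ι, sl_ι, sl_ι, Formal.smulMod, Formal.smulMod, Formal.smulMod,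
        map_add, Rees.smulModΓ_add]
    rw [e, Preadditive.add_comp, Preadditive.add_comp, hx1 m1, hy1 m2]

/-- The kernels as a system. -/
def sys [IsLocallyNoetherian X] {r : ℕ} (a : Fin r → A) (ha : ∀ l, a l ∈ I) : Sys X r where
  G := K G
  coh n := M1.isCoh_kernel (hG.1 (n + 1)) (hG.1 n).1 _
  T l n := μ hG n (ha l)
  comm i j n := μ_comm hG n (ha i) (ha j)

theorem sys_genFrom [IsLocallyNoetherian X] {r : ℕ} (a : Fin r → A) (ha : ∀ l, a l ∈ I)
    (hspan : Ideal.span (Set.range a) = I) : (sys hG a ha).GenFrom 0 := by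
  intro n _
  refine ⟨fun {Z} f f' h => joint_μ hG a ha hspan n f f' fun l => ?_⟩
  have := congrArg (fun φ => Sigma.ι (fun _ : Fin r => K G n) l ≫ φ) h
  simp only [Sys.op, sys] at this
  erw [← Category.assoc, ← Category.assoc, Sigma.ι_desc] at this
  exact this

end Groth.Agent.UVan10.FKer
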