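import Mathlib.RingTheory.Polynomial.Basic
import Mathlib.RingTheory.Noetherian.Basic
import Mathlib.Algebra.DirectSum.Module
import Mathlib.Algebra.MvPolynomial.Equiv
import Mathlib.RingTheory.Adjoin.FG

/-!
# Subsystems of finitely generated graded systems are finitely generated
-/

set_option autoImplicit false
set_option linter.style.haveILetI false

universe u

open MvPolynomial DirectSum

noncomputable section

namespace Groth.Agent.UVan10

variable {R : Type u} [CommRing R] [IsNoetherianRing R] {r : ℕ} (M : ℕ → Type u) [∀ k, AddCommGroup (M k)]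
  [∀ k, Module R (M k)] (T : Fin r → ∀ k, M k →ₗ[R] M (k + 1))

/-- A commuting family of operators raising the degree by one, on modules which are finite in each degree and
generated from some degree on, restricts to every stable family of submodules as such a family. -/
theorem exists_gen_sub [∀ k, Module.Finite R (M k)]
    (hcomm : ∀ i j k (x : M k), T i (k + 1) (T j k x) = T j (k + 1) (T i k x)) (d : ℕ)
    (hgen : ∀ k, d ≤ k → ∀ y : M (k + 1), ∃ x : Fin r → M k, ∑ i, T i k (x i) = y)
    (N : ∀ k, Submodule R (M k)) (hN : ∀ i k, ∀ x ∈ N k, T i k x ∈ N (k + 1)) :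
    ∃ d', ∀ k, d' ≤ k → ∀ y ∈ N (k + 1), ∃ x : Fin r → M k, (∀ i, x i ∈ N k) ∧ ∑ i, T i k (x i) = y := by
  classical
  let D := ⨁ k, M k
  let τ : Fin r → Module.End R D := fun i =>
    DirectSum.toModule R ℕ D fun k => (DirectSum.lof R ℕ M (k + 1)).comp (T i k)
  have hτ : ∀ i k (x : M k), τ i (DirectSum.lof R ℕ M k x) = DirectSum.lof R ℕ M (k + 1) (T i k x) :=
    fun i k x => DirectSum.toModule_lof R k x
  have hτc : ∀ i j, τ i * τ j = τ j * τ i := fun i j => DirectSum.linearMap_ext R fun k => LinearMap.ext fun x => by
    show τ i (τ j (DirectSum.lof R ℕ M k x)) = τ j (τ i (DirectSum.lof R ℕ M k x))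
    rw [hτ, hτ, hτ, hτ, hcomm]
  let S := Algebra.adjoin R (Set.range τ)
  have hS : ∀ a ∈ Set.range τ, ∀ b ∈ Set.range τ, a * b = b * a := by
    rintro _ ⟨i, rfl⟩ _ ⟨j, rfl⟩
    exact hτc i j
  letI : CommRing S := Algebra.adjoinCommRingOfComm R hS
  letI : Algebra R S := S.algebra
  let φ : MvPolynomial (Fin r) R →ₐ[R] S := MvPolynomial.aeval fun i => (⟨τ i, Algebra.subset_adjoin ⟨i, rfl⟩⟩ : S)
  let ψ : MvPolynomial (Fin r) R →+* Module.End R D := S.val.toRingHom.comp φ.toRingHom
  letI : Module (MvPolynomial (Fin r) R) D := Module.compHom D ψ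
  have hX : ∀ i (z : D), (X i : MvPolynomial (Fin r) R) • z = τ i z := fun i z => by
    show (φ (X i) : Module.End R D) z = τ i z
    rw [MvPolynomial.aeval_X]
  have hC : ∀ (a : R) (z : D), (C a : MvPolynomial (Fin r) R) • z = a • z := fun a z => by
    show (φ (C a) : Module.End R D) z = a • z
    rw [MvPolynomial.aeval_C]
    rfl
  -- the whole is finite over the polynomial ring
  choose g hg using fun k => (Module.Finite.fg_top (R := R) (M := M k))
  let G : Set D := ⋃ k ∈ Finset.range (d + 1), DirectSum.lof R ℕ M k '' (g k : Set (M k))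
  have hGfin : G.Finite :=
    Set.Finite.biUnion (Finset.finite_toSet _) fun k _ => (Finset.finite_toSet _).image _
  let P := Submodule.span (MvPolynomial (Fin r) R) G
  have hlow : ∀ k ≤ d, ∀ x : M k, DirectSum.lof R ℕ M k x ∈ P := by
    intro k hk x
    have hx : x ∈ Submodule.span R (g k : Set (M k)) := by rw [hg k]; trivial
    induction hx using Submodule.span_induction with
    | mem y hy => exact Submodule.subset_span (Set.mem_biUnion (Finset.mem_range.2 (Nat.lt_succ_of_le hk)) ⟨y, hy, rfl⟩)
    | zero => rw [map_zero]; exact zero_mem _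
    | add y z _ _ hy hz => rw [map_add]; exact add_mem hy hz
    | smul c y _ hy => rw [map_smul, ← hC]; exact P.smul_mem _ hy
  have hall : ∀ k (x : M k), DirectSum.lof R ℕ M k x ∈ P := by
    intro k
    induction k with
    | zero => exact hlow 0 (Nat.zero_le d)
    | succ k ih =>
      intro x
      rcases Nat.lt_or_ge k d with hk | hk
      · exact hlow (k + 1) hk x
      · obtain ⟨y, rfl⟩ := hgen k hk x
        rw [map_sum]
        refine sum_mem fun i _ => ?_
        rw [← hτ, ← hX]
        exact P.smul_mem _ (ih (y i))
  haveI : Module.Finite (MvPolynomial (Fin r) R) D := by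
    refine ⟨⟨hGfin.toFinset, top_le_iff.1 fun z _ => ?_⟩⟩
    rw [Set.Finite.coe_toFinset]
    induction z using DirectSum.induction_on with
    | zero => exact zero_mem _
    | of k x => exact hall k x
    | add a b ha hb => exact add_mem (ha trivial) (hb trivial)
  haveI : IsNoetherian (MvPolynomial (Fin r) R) D := isNoetherian_of_isNoetherianRing_of_finite _ _
  -- the stable family as a submodule
  have hNX : ∀ i (z : D), (∀ k, z k ∈ N k) → ∀ k, τ i z k ∈ N k := by
    intro i z hz k
    rw [← DirectSum.sum_support_of z, map_sum, DFinsupp.finsetSum_apply]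
    refine sum_mem fun m _ => ?_
    show τ i (DirectSum.lof R ℕ M m (z m)) k ∈ N k
    rw [hτ]
    by_cases hkm : m + 1 = k
    · subst hkm
      rw [DirectSum.lof_eq_of, DirectSum.of_eq_same]
      exact hN i m _ (hz m)
    · rw [DirectSum.lof_eq_of, DirectSum.of_eq_of_ne _ _ _ (Ne.symm hkm)]
      exact zero_mem _
  let N' : Submodule (MvPolynomial (Fin r) R) D :=
    { carrier := {z | ∀ k, z k ∈ N k}
      add_mem' := fun {a b} ha hb k => by
        rw [DirectSum.add_apply]
        exact add_mem (ha k) (hb k)
      zero_mem' := fun k => by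
        rw [DirectSum.zero_apply]
        exact zero_mem _
      smul_mem' := fun p z hz => by
        induction p using MvPolynomial.induction_on with
        | C a =>
          intro k
          rw [hC, DirectSum.smul_apply]
          exact (N k).smul_mem a (hz k)
        | add p q hp hq =>
          intro k
          rw [add_smul, DirectSum.add_apply]
          exact add_mem (hp k) (hq k)
        | mul_X p i hp =>
          intro k
          rw [mul_comm, mul_smul, hX]
          exact hNX i _ hp k }
  obtain ⟨s, hs⟩ := IsNoetherian.noetherian N'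
  refine ⟨s.sup fun z => (DFinsupp.support z).sup id, fun k hk y hy => ?_⟩
  let W : Submodule R (M (k + 1)) := ⨆ i, (N k).map (T i k)
  let V : Submodule R D := W.comap (DirectSum.component R ℕ M (k + 1))
  have hVX : ∀ i (z : D), z ∈ N' → τ i z ∈ V := by
    intro i z hz
    rw [← DirectSum.sum_support_of z, map_sum]
    refine sum_mem fun m _ => ?_
    show DirectSum.component R ℕ M (k + 1) (τ i (DirectSum.lof R ℕ M m (z m))) ∈ W
    rw [hτ, DirectSum.component.of]
    split_ifs with hkm
    · obtain rfl : m = k := Nat.succ_injective hkm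
      exact Submodule.mem_iSup_of_mem i ⟨z m, hz m, rfl⟩
    · exact zero_mem _
  have key : ∀ z ∈ Submodule.span (MvPolynomial (Fin r) R) (s : Set D), z ∈ V := by
    intro z hz
    suffices ∀ p : MvPolynomial (Fin r) R, p • z ∈ V by simpa using this 1
    induction hz using Submodule.span_induction with
    | mem g hg =>
      intro p
      induction p using MvPolynomial.induction_on with
      | C a =>
        rw [hC]
        refine V.smul_mem a ?_
        show DirectSum.component R ℕ M (k + 1) g ∈ W
        have h0 : g (k + 1) = 0 := DFinsupp.notMem_support_iff.1 fun h => by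
          have h1 : id (k + 1) ≤ (DFinsupp.support g).sup id := Finset.le_sup h
          have h2 := Finset.le_sup (f := fun z : D => (DFinsupp.support z).sup id) hg
          simp only [id] at h1
          omega
        rw [show DirectSum.component R ℕ M (k + 1) g = g (k + 1) from rfl, h0]
        exact zero_mem _
      | add p q hp hq => rw [add_smul]; exact add_mem hp hq
      | mul_X p i _ =>
        rw [mul_comm, mul_smul, hX]
        refine hVX i _ (N'.smul_mem p ?_)
        rw [← hs]
        exact Submodule.subset_span hg
    | zero => intro p; rw [smul_zero]; exact zero_mem _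
    | add a b _ _ ha hb => intro p; rw [smul_add]; exact add_mem (ha p) (hb p)
    | smul c a _ ha => intro p; rw [← mul_smul]; exact ha _
  have hyN : DirectSum.lof R ℕ M (k + 1) y ∈ N' := fun m => by
    by_cases hm : k + 1 = m
    · subst hm
      rw [DirectSum.lof_eq_of, DirectSum.of_eq_same]
      exact hy
    · rw [DirectSum.lof_eq_of, DirectSum.of_eq_of_ne _ _ _ (Ne.symm hm)]
      exact zero_mem _
  have hyW : y ∈ W := by
    have := key _ (hs.symm ▸ hyN)
    rwa [show (DirectSum.lof R ℕ M (k + 1) y ∈ V) = (DirectSum.component R ℕ M (k + 1)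
      (DirectSum.lof R ℕ M (k + 1) y) ∈ W) from rfl, DirectSum.component.lof_self] at this
  clear hy hyN
  induction hyW using Submodule.iSup_induction' with
  | mem i z hz =>
    obtain ⟨x, hx, rfl⟩ := hz
    refine ⟨Pi.single i x, fun j => ?_, ?_⟩
    · by_cases hj : j = i
      · subst hj; rw [Pi.single_eq_same]; exact hx
      · rw [Pi.single_eq_of_ne hj]; exact zero_mem _
    · rw [Finset.sum_eq_single i (fun j _ hj => by rw [Pi.single_eq_of_ne hj, map_zero])
        (fun h => absurd (Finset.mem_univ i) h), Pi.single_eq_same]
  | zero => exact ⟨0, fun _ => zero_mem _, by simp⟩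
  | add a b _ _ ha hb =>
    obtain ⟨x, hx, rfl⟩ := ha
    obtain ⟨x', hx', rfl⟩ := hb
    exact ⟨x + x', fun i => add_mem (hx i) (hx' i), by simp [map_add, Finset.sum_add_distrib]⟩

end Groth.Agent.UVan10
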