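import Groth.Agent.Lib.UVan10.Transport
import Groth.Agent.Lib.CohFound.HHBridge

/-!
# Uniform vanishing on a system of thickenings
-/

set_option autoImplicit false
set_option linter.style.haveILetI false
set_option linter.unusedSectionVars false
set_option maxHeartbeats 1000000

universe u

open CategoryTheory CategoryTheory.Limits AlgebraicGeometry TopologicalSpace Groth.Agent.CohFound

noncomputable section

namespace Groth.Agent.UVan10

variable {A : Type u} [CommRing A] [IsNoetherianRing A] {J : Ideal A} (S : TSys J)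

theorem TSys.isProper_p (hp : IsProper (S.p 0)) : ∀ k, IsProper (S.p k)
  | 0 => hp
  | k + 1 => by
    haveI := TSys.isProper_p hp k
    exact FormalH7.isProper_of_thickening (S.hcart k)

theorem TSys.isLocallyNoetherian_X (hp : IsProper (S.p 0)) (k : ℕ) : IsLocallyNoetherian (S.X k) := by
  haveI := S.isProper_p hp k
  exact LocallyOfFiniteType.isLocallyNoetherian (S.p k)

theorem TSys.isNoetherian_X (hp : IsProper (S.p 0)) (k : ℕ) : AlgebraicGeometry.IsNoetherian (S.X k) := by
  haveI := S.isProper_p hp k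
  haveI := S.isLocallyNoetherian_X hp k
  haveI : CompactSpace (S.X k) := QuasiCompact.compactSpace_of_compactSpace (S.p k)
  constructor

variable (L : (k : ℕ) → (S.X k).Modules)
  (φ : ∀ k, (Scheme.Modules.pullback (S.i k)).obj (L (k + 1)) ≅ L k)

/-- The invertible modules restrict to level `0`. -/
def TSys.pullL : ∀ k, (Scheme.Modules.pullback (S.e k)).obj (L k) ≅ L 0
  | 0 => (Scheme.Modules.pullbackId (S.X 0)).app (L 0)
  | k + 1 => (Scheme.Modules.pullbackComp (S.e k) (S.i k)).symm.app (L (k + 1)) ≪≫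
      (Scheme.Modules.pullback (S.e k)).mapIso (φ k) ≪≫ TSys.pullL k

/-- Cohomology of a tensor product with a direct image along a closed immersion. -/
theorem subsingleton_hc_push_tensor {Y Z : Scheme.{u}} (i : Z ⟶ Y) [IsClosedImmersion i] {N : Z.Modules}
    (hN : Coh.IsQCoh N) {E : Y.Modules} (hE : Coh.IsQCoh E) {E' : Z.Modules}
    (e : (Scheme.Modules.pullback i).obj E ≅ E') (p : ℕ)
    (h : Subsingleton (Hc ((abF Z).obj (CohB1.tensorMod N E')) p ⊤)) :
    Subsingleton (Hc ((abF Y).obj (CohB1.tensorMod ((Scheme.Modules.pushforward i).obj N) E)) p ⊤) := by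
  obtain ⟨ψ⟩ := nonempty_push_tensor_iso i N hN E hE
  haveI : (CohB1.tensorMod N ((Scheme.Modules.pullback i).obj E)).IsQuasicoherent :=
    M2.isQCoh_tensor hN (M1.isQCoh_pullback i hE)
  obtain ⟨ε⟩ := nonempty_hc_push_isAffineHom i (CohB1.tensorMod N ((Scheme.Modules.pullback i).obj E)) p ⊤
  have h' : Subsingleton (Hc ((abF Z).obj (CohB1.tensorMod N ((Scheme.Modules.pullback i).obj E))) p ⊤) :=
    subsingleton_hc_of_iso (M2.tensorIso (Iso.refl N) e.symm) p ⊤ h
  exact subsingleton_hc_of_iso ψ p ⊤ (@Equiv.subsingleton _ _ ε.toEquiv h')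

theorem TSys.exists_vanishing_K (hp : IsProper (S.p 0)) (hL : ∀ k, PicF.IsInvertible (L k))
    (φ : ∀ k, (Scheme.Modules.pullback (S.i k)).obj (L (k + 1)) ≅ L k) (ha : CohB1.IsAmple (L 0)) :
    ∃ n₀ : ℕ, ∀ n, n₀ ≤ n → ∀ k q : ℕ, 0 < q →
      Subsingleton (Hc ((abF (S.X k)).obj (CohB1.tensorMod (S.K k) (CohB1.tensorPow (L k) n))) q ⊤) := by
  haveI := hp
  haveI := fun k => S.isLocallyNoetherian_X hp k
  haveI := S.isNoetherian_X hp 0
  obtain ⟨r, a, hspan⟩ := Submodule.fg_iff_exists_fin_generating_family.1 (IsNoetherian.noetherian J)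
  have ha' : ∀ l, a l ∈ J := fun l => hspan.le (Submodule.subset_span (Set.mem_range_self l))
  obtain ⟨n₀, hn₀⟩ := (S.sys a ha').exists_uniform_vanishing (S.p 0) ha (S.sys_genFrom a ha' hspan)
  refine ⟨n₀, fun n hn k q hq => ?_⟩
  have hLn : Coh.IsQCoh (CohB1.tensorPow (L k) n) :=
    Twist.isQCoh_of_isInvertible (Amp.isInvertible_tensorPow (hL k) n)
  have h := subsingleton_hc_push_tensor (S.e k) (S.isQCoh_G k) hLn
    (M2.pullTensorPowIso (S.e k) (L k) n ≪≫ M2.tensorPowIso (S.pullL L φ k) n) q (hn₀ n hn k q hq)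
  exact subsingleton_hc_of_iso (M2.tensorIso (asIso ((Scheme.Modules.pullbackPushforwardAdjunction (S.e k)).unit.app
    (S.K k))).symm (Iso.refl _)) q ⊤ h

/-- The sequence `0 → K_{k+1} → F_{k+1} → i_* F_k → 0`. -/
theorem TSys.shortExact (k : ℕ) :
    (ShortComplex.mk (kernel.ι (S.π k)) (S.π k) (kernel.condition _)).ShortExact :=
  { exact := ShortComplex.exact_kernel (S.π k) }

theorem TSys.exists_vanishing_F (hp : IsProper (S.p 0)) (hL : ∀ k, PicF.IsInvertible (L k))
    (φ : ∀ k, (Scheme.Modules.pullback (S.i k)).obj (L (k + 1)) ≅ L k) (ha : CohB1.IsAmple (L 0)) :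
    ∃ n₀ : ℕ, ∀ n, n₀ ≤ n → ∀ k q : ℕ, 0 < q →
      Subsingleton (Hc ((abF (S.X k)).obj (CohB1.tensorMod (S.F k) (CohB1.tensorPow (L k) n))) q ⊤) := by
  obtain ⟨n₀, hn₀⟩ := S.exists_vanishing_K L hp hL φ ha
  refine ⟨n₀, fun n hn k => ?_⟩
  induction k with
  | zero => exact fun q hq => hn₀ n hn 0 q hq
  | succ k ih =>
    intro q hq
    have hLn := Amp.isInvertible_tensorPow (hL (k + 1)) n
    have hT := shortExact_abF (shortExact_tensor_invertible (S.shortExact k) hLn)
    have h₁ : Subsingleton (Hc ((abF _).obj (CohB1.tensorMod (kernel (S.π k)) (CohB1.tensorPow (L (k + 1)) n))) q ⊤) :=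
      hn₀ n hn (k + 1) q hq
    have h₃ : Subsingleton (Hc ((abF _).obj (CohB1.tensorMod ((Scheme.Modules.pushforward (S.i k)).obj (S.F k))
        (CohB1.tensorPow (L (k + 1)) n))) q ⊤) :=
      subsingleton_hc_push_tensor (S.i k) (S.hF k).1 (Twist.isQCoh_of_isInvertible hLn)
        (M2.pullTensorPowIso (S.i k) (L (k + 1)) n ≪≫ M2.tensorPowIso (φ k) n) q (ih q hq)
    refine subsingleton_of_forall_eq 0 fun x => ?_
    obtain ⟨y, hy⟩ := exact₂ hT q ⊤ x (@Subsingleton.elim _ h₃ _ _)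
    rw [← hy]
    exact (congrArg _ (@Subsingleton.elim _ h₁ y 0)).trans (map_zero _)

end Groth.Agent.UVan10
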