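import Groth.Agent.Lib.UVan10.Systems
import Groth.Agent.Lib.PullSect12.Basic
import Groth.Agent.Lib.FormalH7.Thick
import Groth.Agent.Lib.HomO15.Basic
import Groth.Agent.Lib.CohFound.ReesMaps
import Groth.Prelude.Def_KLin

/-!
# The graded pieces of a coherent module on a system of thickenings
-/

set_option autoImplicit false
set_option linter.style.haveILetI false
set_option linter.unusedSectionVars false
set_option maxHeartbeats 1000000

universe u

open CategoryTheory CategoryTheory.Limits AlgebraicGeometry TopologicalSpace Opposite Groth.Agent.CohFound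
open scoped TensorProduct

noncomputable section

namespace Groth.Agent.UVan10

/-- The kernel of a base change along a surjection. -/
theorem mem_smul_of_isBaseChange {R S M N : Type u} [CommRing R] [CommRing S] [Algebra R S] [AddCommGroup M]
    [Module R M] [AddCommGroup N] [Module R N] [Module S N] [IsScalarTower R S N] {f : M →ₗ[R] N}
    (hf : IsBaseChange S f) (hS : Function.Surjective (algebraMap R S)) {m : M} (hm : f m = 0) :
    m ∈ RingHom.ker (algebraMap R S) • (⊤ : Submodule R M) := by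
  let I := RingHom.ker (algebraMap R S)
  have h1 : (1 : S) ⊗ₜ[R] m = 0 := hf.equiv.injective (by rw [hf.equiv_tmul, one_smul, hm, map_zero])
  have hex := rTensor_exact (f := (Submodule.subtype I)) (g := Algebra.linearMap R S) M
    (fun x => ⟨fun hx => ⟨⟨x, hx⟩, rfl⟩, fun ⟨y, hy⟩ => hy ▸ y.2⟩) hS
  obtain ⟨z, hz⟩ := (hex ((1 : R) ⊗ₜ[R] m)).1 (by
    rw [LinearMap.rTensor_tmul, Algebra.linearMap_apply, map_one, h1])
  have h2 : ∀ z : I ⊗[R] M, TensorProduct.lid R M ((Submodule.subtype I).rTensor M z) ∈ I • (⊤ : Submodule R M) := by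
    intro z
    induction z using TensorProduct.induction_on with
    | zero => rw [map_zero, map_zero]; exact zero_mem _
    | tmul a x =>
      rw [LinearMap.rTensor_tmul, TensorProduct.lid_tmul]
      exact Submodule.smul_mem_smul a.2 trivial
    | add a b ha hb => rw [map_add, map_add]; exact add_mem ha hb
  have h3 := h2 z
  rwa [hz, TensorProduct.lid_tmul, one_smul] at h3

/-- A morphism vanishing on the sections over affine opens is zero. -/
theorem eq_zero_of_affines {X : Scheme.{u}} {M N : X.Modules} (φ : M ⟶ N)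
    (h : ∀ U : X.Opens, IsAffineOpen U → ∀ s, φ.app U s = 0) : φ = 0 := by
  refine Scheme.Modules.hom_ext _ _ fun U => ?_
  ext s
  refine M1.section_ext _ _ fun x hx => ?_
  obtain ⟨V, hV, hxV, hVU⟩ := exists_isAffineOpen_mem_and_subset (x := x) (U := U) hx
  show N.presheaf.germ U x hx (φ.app U s) = N.presheaf.germ U x hx (0 : Γ(N, U))
  rw [map_zero, ← M1.germ_mres N (show V ≤ U from hVU) hxV, ← M1.app_mres, h V hV, map_zero]

variable {A : Type u} [CommRing A] {J : Ideal A}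

/-- A system of thickenings with a compatible system of coherent modules. -/
structure TSys (J : Ideal A) where
  X : ℕ → Scheme.{u}
  p : (k : ℕ) → (X k ⟶ Spec (CommRingCat.of (A ⧸ J ^ (k + 1))))
  i : (k : ℕ) → (X k ⟶ X (k + 1))
  hcart : ∀ k, IsPullback (i k) (p k) (p (k + 1)) (CohB1.specQuotTrans J k)
  F : (k : ℕ) → (X k).Modules
  hF : ∀ k, Coh.IsCoh (F k)
  ψ : ∀ k, (Scheme.Modules.pullback (i k)).obj (F (k + 1)) ≅ F k

variable (S : TSys J)

instance isClosedImmersion_specQuotTrans (k : ℕ) : IsClosedImmersion (CohB1.specQuotTrans J k) :=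
  IsClosedImmersion.spec_of_surjective _
    (Ideal.Quotient.factor_surjective (Ideal.pow_le_pow_right (Nat.le_succ (k + 1))))

instance TSys.isClosedImmersion_i (k : ℕ) : IsClosedImmersion (S.i k) :=
  MorphismProperty.of_isPullback (S.hcart k).flip inferInstance

/-- The structure morphism to `Spec A`. -/
def TSys.tA (k : ℕ) : S.X k ⟶ Spec (CommRingCat.of A) := S.p k ≫ CohB1.specQuot J k

lemma TSys.i_tA (k : ℕ) : S.i k ≫ S.tA (k + 1) = S.tA k := by
  rw [TSys.tA, TSys.tA, ← Category.assoc, (S.hcart k).w, Category.assoc, CohB1.specQuotTrans_specQuot]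

/-- An element of `A` as a function. -/
def TSys.c (k : ℕ) (U : (S.X k).Opens) : A →+* Γ(S.X k, U) :=
  ((S.X k).presheaf.map (homOfLE (le_top : U ≤ ⊤)).op).hom.comp (Coh.toGlobal (S.tA k))

lemma TSys.c_app (k : ℕ) (U : (S.X (k + 1)).Opens) (a : A) :
    (S.i k).app U (S.c (k + 1) U a) = S.c k (S.i k ⁻¹ᵁ U) a := by
  have h : Coh.toGlobal (S.tA k) a = (S.i k).appTop (Coh.toGlobal (S.tA (k + 1)) a) := by
    rw [← S.i_tA k]; rfl
  refine (ConcreteCategory.congr_hom ((S.i k).naturality (homOfLE (le_top : U ≤ ⊤)).op) _).trans ?_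
  show _ = (S.X k).presheaf.map (homOfLE (le_top : S.i k ⁻¹ᵁ U ≤ ⊤)).op (Coh.toGlobal (S.tA k) a)
  rw [h]
  rfl

lemma toGlobal_specQuot (k : ℕ) {X : Scheme.{u}} (p : X ⟶ Spec (CommRingCat.of (A ⧸ J ^ (k + 1)))) (a : A) :
    Coh.toGlobal (p ≫ CohB1.specQuot J k) a =
      p.appTop ((Scheme.ΓSpecIso (CommRingCat.of (A ⧸ J ^ (k + 1)))).inv (Ideal.Quotient.mk _ a)) := by
  have h := ConcreteCategory.congr_hom
    (Scheme.ΓSpecIso_inv_naturality (CommRingCat.ofHom (Ideal.Quotient.mk (J ^ (k + 1))))) a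
  exact (congrArg p.appTop h).symm

lemma TSys.c_eq_zero {k : ℕ} (U : (S.X k).Opens) {a : A} (ha : a ∈ J ^ (k + 1)) : S.c k U a = 0 := by
  show (S.X k).presheaf.map _ (Coh.toGlobal (S.p k ≫ CohB1.specQuot J k) a) = 0
  rw [toGlobal_specQuot, Ideal.Quotient.eq_zero_iff_mem.2 ha]
  simp

/-- The ideal of functions generated by an ideal of `A`. -/
abbrev TSys.cI (k : ℕ) (U : (S.X k).Opens) (I : Ideal A) : Ideal Γ(S.X k, U) := I.map (S.c k U)

theorem TSys.ker_app (k : ℕ) {V : (S.X (k + 1)).Opens} (hV : IsAffineOpen V) :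
    RingHom.ker ((S.i k).app V).hom = S.cI (k + 1) V (J ^ (k + 1)) := by
  let B := CommRingCat.of (A ⧸ J ^ (k + 2))
  have hk := FormalH7.ker_app_eq (S.hcart k) ⟨⊤, isAffineOpen_top _⟩ ⟨V, hV⟩ le_top
  rw [hk]
  refine le_antisymm (Ideal.map_le_iff_le_comap.2 fun x hx => ?_) (Ideal.map_le_iff_le_comap.2 fun a ha => ?_)
  · rw [Scheme.Hom.ker_apply, RingHom.mem_ker] at hx
    obtain ⟨y, rfl⟩ : ∃ y, (Scheme.ΓSpecIso B).inv y = x :=
      ⟨(Scheme.ΓSpecIso B).hom x, ConcreteCategory.congr_hom (Scheme.ΓSpecIso B).hom_inv_id x⟩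
    obtain ⟨a, rfl⟩ := Ideal.Quotient.mk_surjective y
    have ha : a ∈ J ^ (k + 1) := by
      have h := ConcreteCategory.congr_hom (Scheme.ΓSpecIso_inv_naturality (CommRingCat.ofHom
        (Ideal.Quotient.factor (Ideal.pow_le_pow_right (I := J) (Nat.le_succ (k + 1)))))) (Ideal.Quotient.mk _ a)
      have h2 : (Scheme.ΓSpecIso (CommRingCat.of (A ⧸ J ^ (k + 1)))).inv (Ideal.Quotient.mk _ a) = 0 :=
        h.trans hx
      have h3 := congrArg (Scheme.ΓSpecIso (CommRingCat.of (A ⧸ J ^ (k + 1)))).hom h2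
      rw [map_zero] at h3
      exact Ideal.Quotient.eq_zero_iff_mem.1
        ((ConcreteCategory.congr_hom (Scheme.ΓSpecIso _).inv_hom_id _).symm.trans h3)
    show (S.p (k + 1)).appLE ⊤ V le_top _ ∈ S.cI (k + 1) V (J ^ (k + 1))
    rw [show (S.p (k + 1)).appLE ⊤ V le_top ((Scheme.ΓSpecIso B).inv (Ideal.Quotient.mk _ a)) =
        S.c (k + 1) V a from (congrArg _ (toGlobal_specQuot (k + 1) (S.p (k + 1)) a)).symm]
    exact Ideal.mem_map_of_mem _ ha
  · rw [Ideal.mem_comap, ← hk, RingHom.mem_ker]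
    exact (S.c_app k V a).trans (S.c_eq_zero _ ha)

/-- The projection `F_{k+1} ⟶ i_* F_k`. -/
def TSys.π (k : ℕ) : S.F (k + 1) ⟶ (Scheme.Modules.pushforward (S.i k)).obj (S.F k) :=
  (Scheme.Modules.pullbackPushforwardAdjunction (S.i k)).unit.app (S.F (k + 1)) ≫
    (Scheme.Modules.pushforward (S.i k)).map (S.ψ k).hom

theorem TSys.π_app_smul (k : ℕ) (U : (S.X (k + 1)).Opens) (r : Γ(S.X (k + 1), U)) (s : Γ(S.F (k + 1), U)) :
    (S.π k).app U (r • s) = ((S.i k).app U r • (show Γ(S.F k, S.i k ⁻¹ᵁ U) from (S.π k).app U s) :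
      Γ(S.F k, S.i k ⁻¹ᵁ U)) :=
  (S.π k).app_smul r s

theorem isBC_surjective {R S M N : Type u} [CommRing R] [CommRing S] [Algebra R S] [AddCommGroup M]
    [Module R M] [AddCommGroup N] [Module R N] [Module S N] [IsScalarTower R S N] {f : M →ₗ[R] N}
    (hf : IsBaseChange S f) (hS : Function.Surjective (algebraMap R S)) : Function.Surjective f := by
  intro n
  obtain ⟨z, rfl⟩ := hf.equiv.surjective n
  induction z using TensorProduct.induction_on with
  | zero => exact ⟨0, by rw [map_zero, map_zero]⟩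
  | tmul a m =>
    obtain ⟨r, rfl⟩ := hS a
    exact ⟨r • m, by rw [map_smul, hf.equiv_tmul, algebraMap_smul]⟩
  | add a b ha hb =>
    obtain ⟨x, hx⟩ := ha
    obtain ⟨y, hy⟩ := hb
    exact ⟨x + y, by rw [map_add, map_add, hx, hy]⟩

/-- The kernel and surjectivity of the unit of a closed immersion on an affine open. -/
theorem unit_affine {X Y : Scheme.{u}} (i : Y ⟶ X) [IsClosedImmersion i] (M : X.Modules) [Coh.IsQCoh M] {V : X.Opens}
    (hV : IsAffineOpen V) :
    Function.Surjective (((Scheme.Modules.pullbackPushforwardAdjunction i).unit.app M).app V) ∧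
      ∀ s, ((Scheme.Modules.pullbackPushforwardAdjunction i).unit.app M).app V s = 0 →
        s ∈ RingHom.ker (i.app V).hom • (⊤ : Submodule Γ(X, V) Γ(M, V)) := by
  let N := (Scheme.Modules.pullback i).obj M
  let θ := (Scheme.Modules.pullbackPushforwardAdjunction i).unit.app M
  letI := (i.appLE V (i ⁻¹ᵁ V) le_rfl).hom.toAlgebra
  letI := PullBC11.baseModule (g := i) N (le_refl (i ⁻¹ᵁ V))
  haveI : IsScalarTower Γ(X, V) Γ(Y, i ⁻¹ᵁ V) Γ(N, i ⁻¹ᵁ V) :=
    IsScalarTower.of_algebraMap_smul fun _ _ => rfl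
  have hbc : IsBaseChange Γ(Y, i ⁻¹ᵁ V) (PullBC11.sect (M := M) (N := N) θ (U := V) (V := i ⁻¹ᵁ V) le_rfl) :=
    PullSect12.isBC_unit i M hV (hV.preimage i) le_rfl
  have hk : algebraMap Γ(X, V) Γ(Y, i ⁻¹ᵁ V) = (i.app V).hom := by
    rw [RingHom.algebraMap_toAlgebra, ← Scheme.Hom.app_eq_appLE]
  have hs : Function.Surjective (algebraMap Γ(X, V) Γ(Y, i ⁻¹ᵁ V)) := by
    rw [hk]
    exact i.app_surjective V hV
  have hu : ∀ s, PullBC11.sect (M := M) (N := N) θ (U := V) (V := i ⁻¹ᵁ V) le_rfl s = θ.app V s := fun s => M1.mres_id N (le_refl (i ⁻¹ᵁ V)) _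
  refine ⟨fun t => ?_, fun s hs0 => ?_⟩
  · obtain ⟨m, hm⟩ := isBC_surjective hbc hs t
    exact ⟨m, (hu m).symm.trans hm⟩
  · have h1 := mem_smul_of_isBaseChange hbc hs ((hu s).trans hs0)
    rwa [hk] at h1

theorem TSys.π_affine (k : ℕ) {V : (S.X (k + 1)).Opens} (hV : IsAffineOpen V) :
    Function.Surjective ((S.π k).app V) ∧
      ∀ s, (S.π k).app V s = 0 →
        s ∈ S.cI (k + 1) V (J ^ (k + 1)) • (⊤ : Submodule Γ(S.X (k + 1), V) Γ(S.F (k + 1), V)) := by
  haveI : Coh.IsQCoh (S.F (k + 1)) := (S.hF (k + 1)).1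
  obtain ⟨h1, h2⟩ := unit_affine (S.i k) (S.F (k + 1)) hV
  have hb : Function.Bijective ((S.ψ k).hom.app (S.i k ⁻¹ᵁ V)) := ConcreteCategory.bijective_of_isIso _
  refine ⟨fun t => ?_, fun s hs0 => ?_⟩
  · obtain ⟨n, rfl⟩ := hb.2 t
    obtain ⟨m, rfl⟩ := h1 n
    exact ⟨m, rfl⟩
  · rw [← S.ker_app k hV]
    exact h2 s (hb.1 (hs0.trans (map_zero _).symm))

instance TSys.epi_π (k : ℕ) : Epi (S.π k) :=
  epi_of_surjective_affines (M1.isQCoh_push (S.i k) (S.hF k).1) _ fun x => by
    obtain ⟨U, hU, hxU, -⟩ := exists_isAffineOpen_mem_and_subset (x := x) (U := ⊤) trivial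
    exact ⟨U, hU, hxU, (S.π_affine k hU).1⟩

/-- The graded piece in degree `k`, as a submodule of `F_k`. -/
def TSys.Kd : ∀ k, Σ' P : (S.X k).Modules, P ⟶ S.F k
  | 0 => ⟨S.F 0, 𝟙 _⟩
  | k + 1 => ⟨kernel (S.π k), kernel.ι (S.π k)⟩

/-- The graded piece `J^k F_k`. -/
abbrev TSys.K (k : ℕ) : (S.X k).Modules := (S.Kd k).1

/-- Its inclusion. -/
abbrev TSys.ι (k : ℕ) : S.K k ⟶ S.F k := (S.Kd k).2

instance TSys.mono_ι : ∀ k, Mono (S.ι k)
  | 0 => inferInstanceAs (Mono (𝟙 (S.F 0)))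
  | k + 1 => inferInstanceAs (Mono (kernel.ι (S.π k)))

/-- Multiplication by an element of `A`. -/
def TSys.sm (k : ℕ) (M : (S.X k).Modules) (a : A) : M ⟶ M := Formal.smulModΓ M (Coh.toGlobal (S.tA k) a)

lemma TSys.sm_app (k : ℕ) (M : (S.X k).Modules) (a : A) (U : (S.X k).Opens) (m : Γ(M, U)) :
    (S.sm k M a).app U m = S.c k U a • m := KLin.smulModΓ_app_apply M _ U m

lemma TSys.π_sm (k : ℕ) (a : A) :
    S.sm (k + 1) (S.F (k + 1)) a ≫ S.π k = S.π k ≫ (Scheme.Modules.pushforward (S.i k)).map (S.sm k (S.F k) a) := by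
  refine Scheme.Modules.hom_ext _ _ fun U => ?_
  ext m
  show (S.π k).app U ((S.sm (k + 1) (S.F (k + 1)) a).app U m) =
    (S.sm k (S.F k) a).app (S.i k ⁻¹ᵁ U) ((S.π k).app U m)
  rw [sm_app, π_app_smul, c_app, sm_app]

theorem TSys.killed : ∀ (k : ℕ) {a : A}, a ∈ J → S.ι k ≫ S.sm k (S.F k) a = 0
  | 0, a, ha => by
    refine eq_zero_of_affines _ fun U _ s => ?_
    show (S.sm 0 (S.F 0) a).app U ((S.ι 0).app U s) = 0
    rw [sm_app, S.c_eq_zero U (by rwa [zero_add, pow_one]), zero_smul]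
  | k + 1, a, ha => by
    refine eq_zero_of_affines _ fun U hU s => ?_
    show (S.sm (k + 1) (S.F (k + 1)) a).app U ((kernel.ι (S.π k)).app U s) = 0
    rw [sm_app]
    have h0 : (S.π k).app U ((kernel.ι (S.π k)).app U s) = 0 :=
      congrArg (fun f => f.app U s) (kernel.condition (S.π k))
    have hm := (S.π_affine k hU).2 _ h0
    refine Submodule.smul_induction_on hm (fun r hr t _ => ?_) (fun x y hx hy => by rw [smul_add, hx, hy, add_zero])
    · rw [← mul_smul]
      have hz : S.c (k + 1) U a * r = 0 := by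
        induction hr using Submodule.span_induction with
        | mem x hx =>
          obtain ⟨b, hb, rfl⟩ := hx
          rw [← map_mul]
          refine S.c_eq_zero U ?_
          rw [pow_succ' J (k + 1)]
          exact Ideal.mul_mem_mul ha hb
        | zero => exact mul_zero _
        | add x y _ _ hx hy => rw [mul_add, hx, hy, add_zero]
        | smul x y _ hy => rw [smul_eq_mul, mul_left_comm, hy, mul_zero]
      rw [hz, zero_smul]

/-- Multiplication by `a ∈ J` lowered to `i_* F_k`. -/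
def TSys.β (k : ℕ) {a : A} (ha : a ∈ J) : (Scheme.Modules.pushforward (S.i k)).obj (S.F k) ⟶ S.F (k + 1) :=
  Abelian.epiDesc (S.π k) (S.sm (k + 1) (S.F (k + 1)) a) (S.killed (k + 1) ha)

@[reassoc (attr := simp)]
lemma TSys.π_β (k : ℕ) {a : A} (ha : a ∈ J) : S.π k ≫ S.β k ha = S.sm (k + 1) (S.F (k + 1)) a :=
  Abelian.comp_epiDesc _ _ _

/-- The operator of degree one given by `a ∈ J`. -/
def TSys.μ (k : ℕ) {a : A} (ha : a ∈ J) : (Scheme.Modules.pushforward (S.i k)).obj (S.K k) ⟶ S.K (k + 1) :=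
  kernel.lift (S.π k) ((Scheme.Modules.pushforward (S.i k)).map (S.ι k) ≫ S.β k ha) (by
    have h : S.β k ha ≫ S.π k = (Scheme.Modules.pushforward (S.i k)).map (S.sm k (S.F k) a) := by
      rw [← cancel_epi (S.π k), π_β_assoc, π_sm]
    rw [Category.assoc, h, ← Functor.map_comp, S.killed k ha, Functor.map_zero])

@[reassoc (attr := simp)]
lemma TSys.μ_ι (k : ℕ) {a : A} (ha : a ∈ J) :
    S.μ k ha ≫ S.ι (k + 1) = (Scheme.Modules.pushforward (S.i k)).map (S.ι k) ≫ S.β k ha :=
  kernel.lift_ι _ _ _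

theorem TSys.μ_comm (k : ℕ) {a b : A} (ha : a ∈ J) (hb : b ∈ J) :
    (Scheme.Modules.pushforward (S.i (k + 1))).map (S.μ k hb) ≫ S.μ (k + 1) ha =
      (Scheme.Modules.pushforward (S.i (k + 1))).map (S.μ k ha) ≫ S.μ (k + 1) hb := by
  have key : ∀ {a b : A} (ha : a ∈ J) (hb : b ∈ J), S.π (k + 1) ≫
      (Scheme.Modules.pushforward (S.i (k + 1))).map (S.π k) ≫
        (Scheme.Modules.pushforward (S.i (k + 1))).map (S.β k hb) ≫ S.β (k + 1) ha =
      S.sm (k + 2) (S.F (k + 2)) b ≫ S.sm (k + 2) (S.F (k + 2)) a := fun {a b} ha hb => by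
    rw [← Functor.map_comp_assoc, π_β, ← Category.assoc, ← π_sm, Category.assoc, π_β]
  have hepi : Epi ((Scheme.Modules.pushforward (S.i (k + 1))).map (S.π k)) := by
    haveI : PreservesColimitsOfSize.{u, u} (Scheme.Modules.pushforward (S.i (k + 1))) :=
      HomO15.preservesColimits (S.i (k + 1))
    infer_instance
  have hβ : (Scheme.Modules.pushforward (S.i (k + 1))).map (S.β k hb) ≫ S.β (k + 1) ha =
      (Scheme.Modules.pushforward (S.i (k + 1))).map (S.β k ha) ≫ S.β (k + 1) hb := by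
    rw [← cancel_epi ((Scheme.Modules.pushforward (S.i (k + 1))).map (S.π k)), ← cancel_epi (S.π (k + 1)),
      key, key]
    rw [TSys.sm, TSys.sm, ← Groth.Agent.CohFound.Rees.smulModΓ_mul, ← Groth.Agent.CohFound.Rees.smulModΓ_mul]
    exact congrArg (Formal.smulModΓ _) (((map_mul (Coh.toGlobal (S.tA (k + 2))) a b).symm.trans
      (congrArg (Coh.toGlobal (S.tA (k + 2))) (mul_comm a b))).trans (map_mul (Coh.toGlobal (S.tA (k + 2))) b a))
  rw [← cancel_mono (S.ι (k + 1 + 1))]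
  simp only [Category.assoc, μ_ι]
  rw [← Functor.map_comp_assoc, ← Functor.map_comp_assoc, μ_ι, μ_ι, Functor.map_comp_assoc, Functor.map_comp_assoc,
    hβ]

/-- The operators of `J` generate. -/
theorem TSys.epi_desc_μ {r : ℕ} (a : Fin r → A) (hspan : Ideal.span (Set.range a) = J)
    (ha : ∀ l, a l ∈ J) (k : ℕ) :
    Epi (Sigma.desc fun l : Fin r => S.μ k (ha l)) := by
  classical
  refine epi_of_surjective_affines (M1.isQCoh_kernel (S.hF (k + 1)).1 (M1.isQCoh_push (S.i k) (S.hF k).1) (S.π k))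
    _ fun x => ?_
  obtain ⟨V, hV, hxV, -⟩ := exists_isAffineOpen_mem_and_subset (x := x) (U := ⊤) trivial
  refine ⟨V, hV, hxV, fun s => ?_⟩
  let G := Scheme.Modules.pushforward (S.i k)
  let D := Sigma.desc fun l : Fin r => S.μ k (ha l)
  let W : AddSubgroup Γ(S.F (k + 1), V) := AddMonoidHom.range ((D ≫ S.ι (k + 1)).app V).hom
  suffices h : ∀ t, (S.π k).app V t = 0 → t ∈ W by
    obtain ⟨w, hw⟩ := h ((S.ι (k + 1)).app V s) (congrArg (fun f => f.app V s) (kernel.condition (S.π k)))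
    exact ⟨w, M1.app_injective (S.ι (k + 1)) V hw⟩
  intro t ht
  have hsec : ∀ (b : A), b ∈ J ^ k → ∀ u : Γ(S.F (k + 1), V), ∃ v : Γ(S.K k, S.i k ⁻¹ᵁ V),
      (S.ι k).app (S.i k ⁻¹ᵁ V) v = (S.π k).app V (S.c (k + 1) V b • u) := by
    intro b hb u
    rw [π_app_smul, c_app]
    cases k with
    | zero => exact ⟨_, rfl⟩
    | succ m =>
      refine (M1.Sub.mem_ker (S.π m) _ _).2 ?_
      rw [π_app_smul, c_app, S.c_eq_zero _ hb, zero_smul]
      rfl
  have hgen : ∀ (l : Fin r) (b : A), b ∈ J ^ k → ∀ u : Γ(S.F (k + 1), V),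
      S.c (k + 1) V (a l) • S.c (k + 1) V b • u ∈ W := by
    intro l b hb u
    obtain ⟨v, hv⟩ := hsec b hb u
    refine ⟨(Sigma.ι (fun _ : Fin r => G.obj (S.K k)) l).app V (show Γ(G.obj (S.K k), V) from v), ?_⟩
    refine (congrArg (fun f => f.app V (show Γ(G.obj (S.K k), V) from v))
      (show Sigma.ι (fun _ : Fin r => G.obj (S.K k)) l ≫ D ≫ S.ι (k + 1) = G.map (S.ι k) ≫ S.β k (ha l) by
        rw [← Category.assoc, Sigma.ι_desc, μ_ι])).trans ?_
    show (S.β k (ha l)).app V ((S.ι k).app (S.i k ⁻¹ᵁ V) v) = _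
    rw [hv]
    exact (congrArg (fun f => f.app V (S.c (k + 1) V b • u)) (S.π_β k (ha l))).trans (S.sm_app _ _ _ _ _)
  have hJ : ∀ y ∈ J ^ (k + 1), ∀ u : Γ(S.F (k + 1), V), S.c (k + 1) V y • u ∈ W := by
    intro y hy
    rw [pow_succ'] at hy
    induction hy using Submodule.mul_induction_on' with
    | mem_mul_mem x hx b hb =>
      intro u
      rw [map_mul, mul_smul]
      rw [← hspan] at hx
      suffices ∀ b ∈ J ^ k, S.c (k + 1) V x • S.c (k + 1) V b • u ∈ W from this b hb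
      induction hx using Submodule.span_induction with
      | mem z hz => obtain ⟨l, rfl⟩ := hz; exact fun b hb => hgen l b hb u
      | zero => intro b _; rw [map_zero, zero_smul]; exact zero_mem _
      | add z z' _ _ hz hz' => intro b hb; rw [map_add, add_smul]; exact add_mem (hz b hb) (hz' b hb)
      | smul c z _ hz =>
        intro b hb
        have := hz (c * b) (Ideal.mul_mem_left _ c hb)
        rw [smul_eq_mul, map_mul, mul_comm, mul_smul, ← mul_smul (S.c (k + 1) V c), ← map_mul]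
        exact this
    | add x _ y _ hx hy => intro u; rw [map_add, add_smul]; exact add_mem (hx u) (hy u)
  have hm := (S.π_affine k hV).2 t ht
  refine Submodule.smul_induction_on hm (fun q hq u _ => ?_) (fun x y hx hy => add_mem hx hy)
  · induction hq using Submodule.span_induction generalizing u with
    | mem z hz => obtain ⟨y, hy, rfl⟩ := hz; exact hJ y hy u
    | zero => rw [zero_smul]; exact zero_mem _
    | add z z' _ _ hz hz' => rw [add_smul]; exact add_mem (hz u trivial) (hz' u trivial)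
    | smul d z _ hz => rw [smul_eq_mul, mul_comm, mul_smul]; exact hz (d • u) trivial

end Groth.Agent.UVan10
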