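import Groth.Agent.Lib.UVan10.Thick
import Groth.Agent.Lib.CohFound.ClosedImmPush
import Groth.Agent.Lib.CohFound.AffMor

/-!
# The graded pieces as a system on the reduced level, and uniform vanishing
-/

set_option autoImplicit false
set_option linter.style.haveILetI false
set_option linter.unusedSectionVars false
set_option maxHeartbeats 1000000

universe u

open CategoryTheory CategoryTheory.Limits AlgebraicGeometry TopologicalSpace Opposite Groth.Agent.CohFound

noncomputable section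

namespace Groth.Agent.UVan10

/-- The direct image along a closed immersion is faithful on quasi-coherent modules. -/
theorem push_map_injective {X Z : Scheme.{u}} (i : Z ⟶ X) [IsClosedImmersion i] {M N : Z.Modules}
    (hM : Coh.IsQCoh M) {f g : M ⟶ N}
    (h : (Scheme.Modules.pushforward i).map f = (Scheme.Modules.pushforward i).map g) : f = g := by
  haveI := isIso_counit_closedImm i M hM
  let adj := Scheme.Modules.pullbackPushforwardAdjunction i
  have nat : ∀ t : M ⟶ N, (Scheme.Modules.pullback i).map ((Scheme.Modules.pushforward i).map t) ≫ adj.counit.app N =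
      adj.counit.app M ≫ t := fun t => adj.counit.naturality t
  refine (cancel_epi (adj.counit.app M)).1 ?_
  rw [← nat f, ← nat g, h]

theorem map_cancel_aux {C D : Type*} [Category C] [Category D] (P : C ⥤ D) {A₀ A B B' : C} {Z W V : D}
    (x : Z ⟶ P.obj A₀) (f : A₀ ⟶ A) (g : A ⟶ B) (η : B ⟶ B') [IsIso η] (y : P.obj B ⟶ W) (z : W ⟶ V) :
    (x ≫ P.map ((f ≫ g) ≫ η)) ≫ P.map (inv η) ≫ y ≫ z = x ≫ P.map f ≫ P.map g ≫ y ≫ z := by
  simp

variable {A : Type u} [CommRing A] {J : Ideal A}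

instance surjective_specQuotTrans (k : ℕ) : Surjective (CohB1.specQuotTrans J k) := ⟨fun x => by
  let φ : A ⧸ J ^ (k + 1 + 1) →+* A ⧸ J ^ (k + 1) :=
    Ideal.Quotient.factor (Ideal.pow_le_pow_right (Nat.le_succ (k + 1)))
  have hs : Function.Surjective φ :=
    Ideal.Quotient.factor_surjective (Ideal.pow_le_pow_right (Nat.le_succ (k + 1)))
  have hx : ∀ x : PrimeSpectrum (A ⧸ J ^ (k + 1 + 1)), x ∈ Set.range (PrimeSpectrum.comap φ) := by
    intro x
    rw [range_comap_of_surjective _ _ hs, PrimeSpectrum.mem_zeroLocus]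
    intro a ha
    obtain ⟨b, rfl⟩ := Ideal.Quotient.mk_surjective a
    have hb : b ∈ J ^ (k + 1) := Ideal.Quotient.eq_zero_iff_mem.1 ha
    refine x.isPrime.mem_of_pow_mem 2 ?_
    rw [← map_pow, Ideal.Quotient.eq_zero_iff_mem.2 (by
      refine Ideal.pow_le_pow_right (show k + 1 + 1 ≤ (k + 1) * 2 by omega) ?_
      rw [pow_mul]
      exact Ideal.pow_mem_pow hb 2)]
    exact zero_mem _
  exact hx x⟩

variable (S : TSys J)

/-- The composite transition from level `0`. -/
def TSys.e : ∀ k, S.X 0 ⟶ S.X k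
  | 0 => 𝟙 _
  | k + 1 => TSys.e k ≫ S.i k

instance TSys.isClosedImmersion_e : ∀ k, IsClosedImmersion (S.e k)
  | 0 => inferInstanceAs (IsClosedImmersion (𝟙 (S.X 0)))
  | k + 1 => by
    haveI := TSys.isClosedImmersion_e k
    exact inferInstanceAs (IsClosedImmersion (S.e k ≫ S.i k))

theorem TSys.cI_app (k : ℕ) (U : (S.X (k + 1)).Opens) (I : Ideal A) :
    (S.cI (k + 1) U I).map ((S.i k).app U).hom = S.cI k (S.i k ⁻¹ᵁ U) I := by
  rw [TSys.cI, Ideal.map_map]
  exact congrArg (fun f => Ideal.map f I) (RingHom.ext fun a => S.c_app k U a)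

theorem TSys.ker_e : ∀ (k : ℕ) {V : (S.X k).Opens}, IsAffineOpen V →
    RingHom.ker ((S.e k).app V).hom ≤ S.cI k V J
  | 0, V, _ => fun s hs => by
    rw [show s = 0 from hs]
    exact zero_mem _
  | k + 1, V, hV => fun s hs => by
    have h1 : ((S.i k).app V).hom s ∈ S.cI k (S.i k ⁻¹ᵁ V) J :=
      TSys.ker_e k (hV.preimage (S.i k)) hs
    rw [← S.cI_app k V J, ← Ideal.mem_comap,
      Ideal.comap_map_of_surjective _ ((S.i k).app_surjective V hV), ← RingHom.ker_eq_comap_bot, S.ker_app k hV,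
      sup_eq_left.2 (Ideal.map_mono (Ideal.pow_le_self (Nat.succ_ne_zero k)))] at h1
    exact h1

theorem TSys.isQCoh_K : ∀ k, Coh.IsQCoh (S.K k)
  | 0 => (S.hF 0).1
  | k + 1 => M1.isQCoh_kernel (S.hF (k + 1)).1 (M1.isQCoh_push (S.i k) (S.hF k).1) (S.π k)

theorem TSys.smul_K (k : ℕ) {V : (S.X k).Opens} (a : Γ(S.X k, V)) (ha : a ∈ S.cI k V J) (s : Γ(S.K k, V)) :
    a • s = 0 := by
  induction ha using Submodule.span_induction with
  | mem x hx =>
    obtain ⟨b, hb, rfl⟩ := hx
    refine M1.app_injective (S.ι k) V ?_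
    rw [Scheme.Modules.Hom.app_smul, map_zero, ← S.sm_app]
    exact congrArg (fun f => f.app V s) (S.killed k hb)
  | zero => exact zero_smul _ _
  | add x y _ _ hx hy => rw [add_smul, hx, hy, add_zero]
  | smul x y _ hy => rw [smul_eq_mul, mul_smul, hy, smul_zero]

instance TSys.isIso_η (k : ℕ) :
    IsIso ((Scheme.Modules.pullbackPushforwardAdjunction (S.e k)).unit.app (S.K k)) := by
  refine M1.isIso_unit_of_ker_smul (S.e k) (S.K k) (S.isQCoh_K k) fun U a ha s => ?_
  refine S.smul_K k a (S.ker_e k U.2 ?_) s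
  rw [Scheme.Hom.ker_apply] at ha
  exact ha

/-- The graded piece, on level `0`. -/
abbrev TSys.G (k : ℕ) : (S.X 0).Modules := (Scheme.Modules.pullback (S.e k)).obj (S.K k)

theorem TSys.isQCoh_G (k : ℕ) : Coh.IsQCoh (S.G k) := M1.isQCoh_pullback (S.e k) (S.isQCoh_K k)

instance TSys.isIso_ε (k m : ℕ) :
    IsIso ((Scheme.Modules.pullbackPushforwardAdjunction (S.e m)).counit.app (S.G k)) :=
  isIso_counit_closedImm (S.e m) (S.G k) (S.isQCoh_G k)

/-- `e_{k+1*} G_k ≅ i_* K_k`. -/
def TSys.θI (k : ℕ) : (Scheme.Modules.pushforward (S.e (k + 1))).obj (S.G k) ≅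
    (Scheme.Modules.pushforward (S.i k)).obj (S.K k) :=
  (Scheme.Modules.pushforwardComp (S.e k) (S.i k)).symm.app (S.G k) ≪≫
    (Scheme.Modules.pushforward (S.i k)).mapIso
      (asIso ((Scheme.Modules.pullbackPushforwardAdjunction (S.e k)).unit.app (S.K k))).symm

/-- The operator of degree one on level `0`. -/
def TSys.T {a : A} (ha : a ∈ J) (k : ℕ) : S.G k ⟶ S.G (k + 1) :=
  inv ((Scheme.Modules.pullbackPushforwardAdjunction (S.e (k + 1))).counit.app (S.G k)) ≫
    (Scheme.Modules.pullback (S.e (k + 1))).map ((S.θI k).hom ≫ S.μ k ha)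

theorem TSys.push_T {a : A} (ha : a ∈ J) (k : ℕ) :
    (Scheme.Modules.pushforward (S.e (k + 1))).map (S.T ha k) =
      ((S.θI k).hom ≫ S.μ k ha) ≫ (Scheme.Modules.pullbackPushforwardAdjunction (S.e (k + 1))).unit.app (S.K (k + 1)) := by
  let adj := Scheme.Modules.pullbackPushforwardAdjunction (S.e (k + 1))
  have hnat : ((S.θI k).hom ≫ S.μ k ha) ≫ adj.unit.app (S.K (k + 1)) =
      adj.unit.app _ ≫ (Scheme.Modules.pushforward (S.e (k + 1))).map
        ((Scheme.Modules.pullback (S.e (k + 1))).map ((S.θI k).hom ≫ S.μ k ha)) :=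
    adj.unit.naturality ((S.θI k).hom ≫ S.μ k ha)
  rw [hnat, TSys.T, Functor.map_comp]
  congr 1
  rw [Functor.map_inv, IsIso.inv_eq_of_hom_inv_id]
  haveI : IsIso ((Scheme.Modules.pushforward (S.e (k + 1))).map (adj.counit.app (S.G k))) := inferInstance
  rw [← cancel_mono ((Scheme.Modules.pushforward (S.e (k + 1))).map (adj.counit.app (S.G k))), Category.assoc,
    Category.id_comp]
  erw [adj.right_triangle_components (S.G k)]
  rw [Category.comp_id]

theorem TSys.T_comm {a b : A} (ha : a ∈ J) (hb : b ∈ J) (k : ℕ) :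
    S.T hb k ≫ S.T ha (k + 1) = S.T ha k ≫ S.T hb (k + 1) := by
  refine push_map_injective (S.e (k + 1 + 1)) (S.isQCoh_G k) ?_
  let c := Scheme.Modules.pushforwardComp (S.e (k + 1)) (S.i (k + 1))
  let P := Scheme.Modules.pushforward (S.i (k + 1))
  have key : ∀ {a b : A} (ha : a ∈ J) (hb : b ∈ J),
      (Scheme.Modules.pushforward (S.e (k + 1 + 1))).map (S.T hb k ≫ S.T ha (k + 1)) =
        c.inv.app (S.G k) ≫ P.map (S.θI k).hom ≫ (P.map (S.μ k hb) ≫ S.μ (k + 1) ha) ≫
          (Scheme.Modules.pullbackPushforwardAdjunction (S.e (k + 1 + 1))).unit.app (S.K (k + 1 + 1)) := by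
    intro a b ha hb
    rw [Functor.map_comp, S.push_T ha (k + 1)]
    have hn : (Scheme.Modules.pushforward (S.e (k + 1 + 1))).map (S.T hb k) ≫ c.inv.app (S.G (k + 1)) =
        c.inv.app (S.G k) ≫ P.map ((Scheme.Modules.pushforward (S.e (k + 1))).map (S.T hb k)) :=
      c.inv.naturality (S.T hb k)
    show _ ≫ ((c.inv.app (S.G (k + 1)) ≫ P.map (inv ((Scheme.Modules.pullbackPushforwardAdjunction
      (S.e (k + 1))).unit.app (S.K (k + 1))))) ≫ S.μ (k + 1) ha) ≫ _ = _
    simp only [Category.assoc]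
    refine ((Category.assoc _ _ _).symm.trans ((congrArg (fun φ => φ ≫ _)
      (hn.trans (congrArg (fun t => c.inv.app _ ≫ P.map t) (S.push_T hb k)))).trans ?_))
    exact map_cancel_aux P _ _ _ _ _ _
  rw [key ha hb, key hb ha, S.μ_comm k ha hb]

theorem TSys.isCoh_K [∀ k, IsLocallyNoetherian (S.X k)] : ∀ k, Coh.IsCoh (S.K k)
  | 0 => S.hF 0
  | k + 1 => M1.isCoh_kernel (S.hF (k + 1)) (M1.isQCoh_push (S.i k) (S.hF k).1) (S.π k)

/-- The system on level `0`. -/
def TSys.sys [∀ k, IsLocallyNoetherian (S.X k)] {r : ℕ} (a : Fin r → A) (ha : ∀ l, a l ∈ J) : Sys (S.X 0) r where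
  G := S.G
  coh k := M1.isCoh_pullback (S.e k) (S.isCoh_K k)
  T l k := S.T (ha l) k
  comm i j k := S.T_comm (ha i) (ha j) k

theorem TSys.sys_genFrom [∀ k, IsLocallyNoetherian (S.X k)] {r : ℕ} (a : Fin r → A) (ha : ∀ l, a l ∈ J)
    (hspan : Ideal.span (Set.range a) = J) : (S.sys a ha).GenFrom 0 := by
  intro k _
  haveI := S.epi_desc_μ a hspan ha k
  refine ⟨fun {Z} f g hfg => ?_⟩
  let adj := Scheme.Modules.pullbackPushforwardAdjunction (S.e (k + 1))
  refine (adj.homEquiv (S.K (k + 1)) Z).injective ?_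
  refine (cancel_epi (Sigma.desc fun l : Fin r => S.μ k (ha l))).1 (Sigma.hom_ext _ _ fun l => ?_)
  have h : S.T (ha l) k ≫ f = S.T (ha l) k ≫ g := by
    have := congrArg (fun φ => Sigma.ι (fun _ : Fin r => S.G k) l ≫ φ) hfg
    simp only [Sys.op, TSys.sys] at this
    erw [← Category.assoc, ← Category.assoc, Sigma.ι_desc] at this
    exact this
  rw [TSys.T, Category.assoc, Category.assoc, cancel_epi, Functor.map_comp, Category.assoc, Category.assoc,
    cancel_epi] at h
  rw [Sigma.ι_desc_assoc, Sigma.ι_desc_assoc, ← adj.homEquiv_naturality_left, ← adj.homEquiv_naturality_left, h]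

end Groth.Agent.UVan10
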